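import Cfsg.Prelude.Def_LieTwisted
import Cfsg.Agent.Lib.Tw2E6Fi22.Tabs

/-! # The matrices of the tables -/

set_option autoImplicit false
set_option maxRecDepth 100000
set_option linter.unusedSectionVars false
set_option linter.unusedVariables false

namespace Cfsg.Agent.Lib.Tw2E6Fi22

open Cfsg.Lie Cfsg.Agent.Lib.Compute.GF4

/-- The numbering of the coordinates. -/
def eE : chevE6.Idx ≃ Fin 78 := finSumFinEquiv

/-- The matrix of a table. -/
def mT (T : Tab) : Matrix chevE6.Idx chevE6.Idx F4 := Matrix.of fun i j => cd (colT T (eE j).val) (eE i).val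

theorem hasT_mT (T : Tab) : HasT eE (mT T) T := fun _ _ => rfl

end Cfsg.Agent.Lib.Tw2E6Fi22
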