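import Cfsg.Agent.Lib.Tw2E6Fi22.Words

/-! # Checks on the unit vectors -/

set_option autoImplicit false
set_option maxRecDepth 100000
set_option linter.unusedSectionVars false
set_option linter.unusedVariables false

namespace Cfsg.Agent.Lib.Tw2E6Fi22

open Cfsg.Lie Cfsg.Agent.Lib.Compute.GF4

set_option maxHeartbeats 0

theorem c_wE : ∀ k : Fin 78, apw (wE.map letT) (4 ^ k.val) = colT tE k.val := by decide +kernel

theorem c_wF : ∀ k : Fin 78, apw (wF.map letT) (4 ^ k.val) = colT tF k.val := by decide +kernel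

theorem r_W1 : ∀ k : Fin 78, pw [tW1] 10 (4 ^ k.val) = 4 ^ k.val := by decide +kernel

theorem r_W3 : ∀ k : Fin 78, pw [tW3] 9 (4 ^ k.val) = 4 ^ k.val := by decide +kernel

theorem r_CD : ∀ k : Fin 78, pw [tC, tD] 3 (4 ^ k.val) = 4 ^ k.val := by decide +kernel

theorem r_FG : ∀ k : Fin 78, pw [tF, tG] 3 (4 ^ k.val) = 4 ^ k.val := by decide +kernel

theorem r_AE : ∀ k : Fin 78, pw [tA, tE] 2 (4 ^ k.val) = 4 ^ k.val := by decide +kernel

theorem r_AI : ∀ k : Fin 78, pw [tA, tI] 2 (4 ^ k.val) = 4 ^ k.val := by decide +kernel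

theorem r_BG : ∀ k : Fin 78, pw [tB, tG] 2 (4 ^ k.val) = 4 ^ k.val := by decide +kernel

theorem r_CF : ∀ k : Fin 78, pw [tC, tF] 2 (4 ^ k.val) = 4 ^ k.val := by decide +kernel

theorem r_DF : ∀ k : Fin 78, pw [tD, tF] 2 (4 ^ k.val) = 4 ^ k.val := by decide +kernel

theorem r_EH : ∀ k : Fin 78, pw [tE, tH] 2 (4 ^ k.val) = 4 ^ k.val := by decide +kernel

theorem r_GH : ∀ k : Fin 78, pw [tG, tH] 2 (4 ^ k.val) = 4 ^ k.val := by decide +kernel

theorem c_l6 : ∀ k : Fin 78, apw [tx42_0, tx37_0] (4 ^ k.val) = colT tl6 k.val := by decide +kernel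

theorem r_BB : ∀ k : Fin 78, pw [tB, tB] 1 (4 ^ k.val) = 4 ^ k.val := by decide +kernel

theorem r_FF : ∀ k : Fin 78, pw [tF, tF] 1 (4 ^ k.val) = 4 ^ k.val := by decide +kernel

theorem c_wD : ∀ k : Fin 78, apw (wD.map letT) (4 ^ k.val) = colT tD k.val := by decide +kernel

end Cfsg.Agent.Lib.Tw2E6Fi22
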