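import Cfsg.Agent.Lib.Tw2E6Fi22.Words

/-! # Checks on the unit vectors -/

set_option autoImplicit false
set_option maxRecDepth 100000
set_option linter.unusedSectionVars false
set_option linter.unusedVariables false

namespace Cfsg.Agent.Lib.Tw2E6Fi22

open Cfsg.Lie Cfsg.Agent.Lib.Compute.GF4

set_option maxHeartbeats 0

theorem c_wG : ∀ k : Fin 78, apw (wG.map letT) (4 ^ k.val) = colT tG k.val := by decide +kernel

theorem c_wB : ∀ k : Fin 78, apw (wB.map letT) (4 ^ k.val) = colT tB k.val := by decide +kernel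

theorem c_W1 : ∀ k : Fin 78, apw [tD, tC, tB, tD, tE, tF, tD, tH, tI] (4 ^ k.val) = colT tW1 k.val := by decide +kernel

theorem c_W3 : ∀ k : Fin 78, apw [tB, tC, tD, tE, tF, tG, tH] (4 ^ k.val) = colT tW3 k.val := by decide +kernel

theorem r_DE : ∀ k : Fin 78, pw [tD, tE] 3 (4 ^ k.val) = 4 ^ k.val := by decide +kernel

theorem r_HI : ∀ k : Fin 78, pw [tH, tI] 3 (4 ^ k.val) = 4 ^ k.val := by decide +kernel

theorem r_AF : ∀ k : Fin 78, pw [tA, tF] 2 (4 ^ k.val) = 4 ^ k.val := by decide +kernel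

theorem r_BD : ∀ k : Fin 78, pw [tB, tD] 2 (4 ^ k.val) = 4 ^ k.val := by decide +kernel

theorem r_BH : ∀ k : Fin 78, pw [tB, tH] 2 (4 ^ k.val) = 4 ^ k.val := by decide +kernel

theorem r_CG : ∀ k : Fin 78, pw [tC, tG] 2 (4 ^ k.val) = 4 ^ k.val := by decide +kernel

theorem r_DG : ∀ k : Fin 78, pw [tD, tG] 2 (4 ^ k.val) = 4 ^ k.val := by decide +kernel

theorem r_EI : ∀ k : Fin 78, pw [tE, tI] 2 (4 ^ k.val) = 4 ^ k.val := by decide +kernel

theorem r_GI : ∀ k : Fin 78, pw [tG, tI] 2 (4 ^ k.val) = 4 ^ k.val := by decide +kernel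

theorem r_AA : ∀ k : Fin 78, pw [tA, tA] 1 (4 ^ k.val) = 4 ^ k.val := by decide +kernel

theorem r_EE : ∀ k : Fin 78, pw [tE, tE] 1 (4 ^ k.val) = 4 ^ k.val := by decide +kernel

theorem r_II : ∀ k : Fin 78, pw [tI, tI] 1 (4 ^ k.val) = 4 ^ k.val := by decide +kernel

end Cfsg.Agent.Lib.Tw2E6Fi22
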