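import Cfsg.Agent.Lib.Tw2E6Fi22.Words

/-! # Checks on the unit vectors -/

set_option autoImplicit false
set_option maxRecDepth 100000
set_option linter.unusedSectionVars false
set_option linter.unusedVariables false

namespace Cfsg.Agent.Lib.Tw2E6Fi22

open Cfsg.Lie Cfsg.Agent.Lib.Compute.GF4

set_option maxHeartbeats 0

theorem c_wA : ∀ k : Fin 78, apw (wA.map letT) (4 ^ k.val) = colT tA k.val := by decide +kernel

theorem c_wI : ∀ k : Fin 78, apw (wI.map letT) (4 ^ k.val) = colT tI k.val := by decide +kernel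

theorem c_W2 : ∀ k : Fin 78, apw [tA, tB, tC, tD, tE, tF, tH] (4 ^ k.val) = colT tW2 k.val := by decide +kernel

theorem r_AB : ∀ k : Fin 78, pw [tA, tB] 3 (4 ^ k.val) = 4 ^ k.val := by decide +kernel

theorem r_DH : ∀ k : Fin 78, pw [tD, tH] 3 (4 ^ k.val) = 4 ^ k.val := by decide +kernel

theorem r_AC : ∀ k : Fin 78, pw [tA, tC] 2 (4 ^ k.val) = 4 ^ k.val := by decide +kernel

theorem r_AG : ∀ k : Fin 78, pw [tA, tG] 2 (4 ^ k.val) = 4 ^ k.val := by decide +kernel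

theorem r_BE : ∀ k : Fin 78, pw [tB, tE] 2 (4 ^ k.val) = 4 ^ k.val := by decide +kernel

theorem r_BI : ∀ k : Fin 78, pw [tB, tI] 2 (4 ^ k.val) = 4 ^ k.val := by decide +kernel

theorem r_CH : ∀ k : Fin 78, pw [tC, tH] 2 (4 ^ k.val) = 4 ^ k.val := by decide +kernel

theorem r_DI : ∀ k : Fin 78, pw [tD, tI] 2 (4 ^ k.val) = 4 ^ k.val := by decide +kernel

theorem r_FH : ∀ k : Fin 78, pw [tF, tH] 2 (4 ^ k.val) = 4 ^ k.val := by decide +kernel

theorem c_l4 : ∀ k : Fin 78, apw [tx56_0, tx36_0] (4 ^ k.val) = colT tl4 k.val := by decide +kernel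

theorem c_l7 : ∀ k : Fin 78, apw [tx29_0, tx34_0] (4 ^ k.val) = colT tl7 k.val := by decide +kernel

theorem r_CC : ∀ k : Fin 78, pw [tC, tC] 1 (4 ^ k.val) = 4 ^ k.val := by decide +kernel

theorem r_GG : ∀ k : Fin 78, pw [tG, tG] 1 (4 ^ k.val) = 4 ^ k.val := by decide +kernel

end Cfsg.Agent.Lib.Tw2E6Fi22
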