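import Cfsg.Agent.Lib.Tw2E6Fi22.Words

/-! # Checks on the unit vectors -/

set_option autoImplicit false
set_option maxRecDepth 100000
set_option linter.unusedSectionVars false
set_option linter.unusedVariables false

namespace Cfsg.Agent.Lib.Tw2E6Fi22

open Cfsg.Lie Cfsg.Agent.Lib.Compute.GF4

set_option maxHeartbeats 0

theorem c_wC : ∀ k : Fin 78, apw (wC.map letT) (4 ^ k.val) = colT tC k.val := by decide +kernel

theorem c_wH : ∀ k : Fin 78, apw (wH.map letT) (4 ^ k.val) = colT tH k.val := by decide +kernel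

theorem r_W2 : ∀ k : Fin 78, pw [tW2] 9 (4 ^ k.val) = 4 ^ k.val := by decide +kernel

theorem r_BC : ∀ k : Fin 78, pw [tB, tC] 3 (4 ^ k.val) = 4 ^ k.val := by decide +kernel

theorem r_EF : ∀ k : Fin 78, pw [tE, tF] 3 (4 ^ k.val) = 4 ^ k.val := by decide +kernel

theorem r_AD : ∀ k : Fin 78, pw [tA, tD] 2 (4 ^ k.val) = 4 ^ k.val := by decide +kernel

theorem r_AH : ∀ k : Fin 78, pw [tA, tH] 2 (4 ^ k.val) = 4 ^ k.val := by decide +kernel

theorem r_BF : ∀ k : Fin 78, pw [tB, tF] 2 (4 ^ k.val) = 4 ^ k.val := by decide +kernel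

theorem r_CE : ∀ k : Fin 78, pw [tC, tE] 2 (4 ^ k.val) = 4 ^ k.val := by decide +kernel

theorem r_CI : ∀ k : Fin 78, pw [tC, tI] 2 (4 ^ k.val) = 4 ^ k.val := by decide +kernel

theorem r_EG : ∀ k : Fin 78, pw [tE, tG] 2 (4 ^ k.val) = 4 ^ k.val := by decide +kernel

theorem r_FI : ∀ k : Fin 78, pw [tF, tI] 2 (4 ^ k.val) = 4 ^ k.val := by decide +kernel

theorem c_l5 : ∀ k : Fin 78, apw [tx15_0, tx35_0] (4 ^ k.val) = colT tl5 k.val := by decide +kernel

theorem c_l8 : ∀ k : Fin 78, apw [tx56_1, tx36_2] (4 ^ k.val) = colT tl8 k.val := by decide +kernel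

theorem r_DD : ∀ k : Fin 78, pw [tD, tD] 1 (4 ^ k.val) = 4 ^ k.val := by decide +kernel

theorem r_HH : ∀ k : Fin 78, pw [tH, tH] 1 (4 ^ k.val) = 4 ^ k.val := by decide +kernel

end Cfsg.Agent.Lib.Tw2E6Fi22
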