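import Cfsg.Agent.Lib.Tw2E6Fi22.Words

/-! # The checks of the certificate of irreducibility -/

set_option autoImplicit false
set_option maxRecDepth 100000
set_option linter.unusedSectionVars false
set_option linter.unusedVariables false

namespace Cfsg.Agent.Lib.Tw2E6Fi22

open Cfsg.Lie Cfsg.Agent.Lib.Compute.GF4

set_option maxHeartbeats 0

/-- The generators by number. -/
def genN : ℕ → Tab
  | 0 => tA
  | 1 => tB
  | 2 => tC
  | 3 => tD
  | 4 => tE
  | 5 => tF
  | 6 => tG
  | 7 => tH
  | _ => tI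

/-- The element of the group algebra. -/
noncomputable def Wc (c : ℕ) : ℕ := Nat.xor c (Nat.xor (apw [tH] c) (apw [tE, tB, tD, tI, tA] c))

theorem c_kernel : Wc v0 = 0 := by decide +kernel

theorem c_R : ∀ k : Fin 78, ap tRi (Wc (4 ^ k.val)) = if k.val = 74 then Nat.xor (4 ^ k.val) v0 else 4 ^ k.val := by
  decide +kernel

theorem c_B0 : colT tBas 0 = v0 := by decide +kernel

theorem c_spin : ∀ t : Fin 78, t.val = 0 ∨
    (sp.getD t.val 0 < t.val ∧ colT tBas t.val = ap (genN (sg.getD t.val 0)) (colT tBas (sp.getD t.val 0))) := by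
  decide +kernel

theorem c_S : ∀ j : Fin 78, ap tBas (colT tSi j.val) = 4 ^ j.val := by decide +kernel

end Cfsg.Agent.Lib.Tw2E6Fi22
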