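import Mathlib
import Cfsg.Agent.Lib.Compute.GF4

/-!
# Vectors over the field with four elements as codes, for matrices of degree 78

Coordinate `k` of a code occupies the bits `2 k` and `2 k + 1`. A table lists for every column the codes of the column and
of its multiples by `w` and `v`, so that a product with a vector is an exclusive or of one table entry per column.
-/

set_option autoImplicit false
set_option linter.unusedSectionVars false

namespace Cfsg.Agent.Lib.Tw2E6Fi22

open Cfsg.Agent.Lib.Compute.GF4 Matrix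

/-- An element from its two bits. -/
def dec : Bool → Bool → F4
  | false, false => F4.o
  | true, false => F4.i
  | false, true => F4.w
  | true, true => F4.v

/-- The coordinate `k` of a code. -/
def cd (n k : ℕ) : F4 := dec (n.testBit (2 * k)) (n.testBit (2 * k + 1))

theorem dec_add (a b c d : Bool) : dec (xor a c) (xor b d) = dec a b + dec c d := by
  revert a b c d
  decide

theorem cd_xor (a b k : ℕ) : cd (Nat.xor a b) k = cd a k + cd b k := by
  have h : ∀ j, (Nat.xor a b).testBit j = xor (a.testBit j) (b.testBit j) := fun j => Nat.testBit_xor a b j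
  simp only [cd, h, dec_add]

theorem cd_xor' (a b k : ℕ) : cd (a ^^^ b) k = cd a k + cd b k := cd_xor a b k

theorem cd_zero (k : ℕ) : cd 0 k = 0 := by
  simp only [cd, Nat.zero_testBit]
  rfl

theorem cd_shift (x k : ℕ) : cd (Nat.shiftRight x 2) k = cd x (k + 1) := by
  have h : ∀ j, (Nat.shiftRight x 2).testBit j = x.testBit (2 + j) := fun j => by
    exact Nat.testBit_shiftRight x
  simp only [cd, h]
  congr 2 <;> ring_nf

/-- The entry of a line of a table for a digit. -/
noncomputable def pick (c : ℕ) (t : ℕ × ℕ × ℕ) : ℕ :=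
  Bool.rec (Bool.rec (Bool.rec t.2.2 t.2.1 (Nat.beq c 2)) t.1 (Nat.beq c 1)) 0 (Nat.beq c 0)

/-- The strict evaluation of an argument. -/
noncomputable def force (x : ℕ) (f : ℕ → ℕ) : ℕ := Nat.rec (f 0) (fun n _ => f (Nat.succ n)) x

theorem force_eq (x : ℕ) (f : ℕ → ℕ) : force x f = f x := by
  cases x <;> rfl

/-- A line of a table: a column and its multiples, on the coordinates below 78. -/
def WF (t : ℕ × ℕ × ℕ) : Prop :=
  ∀ k : Fin 78, cd t.2.1 k.val = F4.w * cd t.1 k.val ∧ cd t.2.2 k.val = F4.v * cd t.1 k.val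

instance (t : ℕ × ℕ × ℕ) : Decidable (WF t) := by
  unfold WF
  infer_instance

theorem pick_cases (x : ℕ) (t : ℕ × ℕ × ℕ) :
    (cd x 0 = 0 ∧ pick (Nat.land x 3) t = 0) ∨ (cd x 0 = 1 ∧ pick (Nat.land x 3) t = t.1) ∨
    (cd x 0 = F4.w ∧ pick (Nat.land x 3) t = t.2.1) ∨ (cd x 0 = F4.v ∧ pick (Nat.land x 3) t = t.2.2) := by
  have e : Nat.land x 3 = x % 4 := Nat.and_two_pow_sub_one_eq_mod x 2
  have e0 : x.testBit 0 = decide (x % 2 = 1) := by
    simp [Nat.testBit_eq_decide_div_mod_eq (x := x) (i := 0)]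
  have e1 : x.testBit 1 = decide (x / 2 % 2 = 1) := by
    simpa using Nat.testBit_eq_decide_div_mod_eq (x := x) (i := 1)
  have ec : cd x 0 = dec (x.testBit 0) (x.testBit 1) := rfl
  rw [ec, e, e0, e1]
  have h4 : x % 4 = 0 ∨ x % 4 = 1 ∨ x % 4 = 2 ∨ x % 4 = 3 := by omega
  rcases h4 with h | h | h | h
  · left
    have a1 : ¬ (x % 2 = 1) := by omega
    have a2 : ¬ (x / 2 % 2 = 1) := by omega
    simp only [a1, a2, decide_false, h]
    exact ⟨rfl, rfl⟩
  · right; left
    have a1 : (x % 2 = 1) := by omega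
    have a2 : ¬ (x / 2 % 2 = 1) := by omega
    simp only [a1, a2, decide_true, decide_false, h]
    exact ⟨rfl, rfl⟩
  · right; right; left
    have a1 : ¬ (x % 2 = 1) := by omega
    have a2 : (x / 2 % 2 = 1) := by omega
    simp only [a1, a2, decide_true, decide_false, h]
    exact ⟨rfl, rfl⟩
  · right; right; right
    have a1 : (x % 2 = 1) := by omega
    have a2 : (x / 2 % 2 = 1) := by omega
    simp only [a1, a2, decide_true, h]
    exact ⟨rfl, rfl⟩

/-- A table of a matrix. -/
abbrev Tab := List (ℕ × ℕ × ℕ)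

/-- The product of a matrix and the vector of code `x`. -/
noncomputable def ap (T : Tab) : ℕ → ℕ :=
  List.rec (fun _ => 0) (fun t _ ih x => Nat.xor (pick (Nat.land x 3) t) (force (Nat.shiftRight x 2) ih)) T

theorem ap_nil (x : ℕ) : ap [] x = 0 := rfl

theorem ap_cons (t : ℕ × ℕ × ℕ) (l : Tab) (x : ℕ) :
    ap (t :: l) x = Nat.xor (pick (Nat.land x 3) t) (ap l (Nat.shiftRight x 2)) :=
  congrArg (Nat.xor _) (force_eq _ _)

/-- A column of a table. -/
def colT (T : Tab) (j : ℕ) : ℕ := (T.getD j (0, 0, 0)).1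

theorem cd_pick (x : ℕ) {t : ℕ × ℕ × ℕ} (ht : WF t) (k : Fin 78) :
    cd (pick (Nat.land x 3) t) k.val = cd x 0 * cd t.1 k.val := by
  rcases pick_cases x t with ⟨h1, h2⟩ | ⟨h1, h2⟩ | ⟨h1, h2⟩ | ⟨h1, h2⟩ <;> rw [h1, h2]
  · rw [cd_zero, zero_mul]
  · rw [one_mul]
  · exact (ht k).1
  · exact (ht k).2

theorem cd_ap {T : Tab} (hT : ∀ t ∈ T, WF t) (x : ℕ) (k : Fin 78) :
    cd (ap T x) k.val = ∑ j ∈ Finset.range T.length, cd x j * cd (colT T j) k.val := by
  induction T generalizing x with
  | nil => simp [ap_nil, cd_zero]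
  | cons t l ih =>
    have hl : ∀ t ∈ l, WF t := fun t ht => hT t (List.mem_cons_of_mem _ ht)
    have h0 := hT t List.mem_cons_self
    rw [ap_cons, cd_xor, cd_pick x h0, ih hl, List.length_cons, Finset.sum_range_succ', add_comm]
    congr 1
    have e1 : ∀ j, colT (t :: l) (j + 1) = colT l j := fun j => by
      simp [colT]
    simp only [e1, cd_shift]

/-- Everything in a set closed under sums of the lines of a table is in the set. -/
theorem ap_mem {Z : ℕ → Prop} (h0 : Z 0) (hx : ∀ a b, Z a → Z b → Z (Nat.xor a b)) {T : Tab}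
    (hT : ∀ t ∈ T, Z t.1 ∧ Z t.2.1 ∧ Z t.2.2) (x : ℕ) : Z (ap T x) := by
  induction T generalizing x with
  | nil => exact h0
  | cons t l ih =>
    have hl : ∀ t ∈ l, Z t.1 ∧ Z t.2.1 ∧ Z t.2.2 := fun t ht => hT t (List.mem_cons_of_mem _ ht)
    obtain ⟨h1, h2, h3⟩ := hT t List.mem_cons_self
    rw [ap_cons]
    refine hx _ _ ?_ (ih hl _)
    rcases pick_cases x t with ⟨_, h⟩ | ⟨_, h⟩ | ⟨_, h⟩ | ⟨_, h⟩ <;> rw [h]
    · exact h0
    · exact h1
    · exact h2
    · exact h3

/-- A good table. -/
def Good (T : Tab) : Prop := T.length = 78 ∧ ∀ t ∈ T, WF t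

instance (T : Tab) : Decidable (Good T) := by
  unfold Good
  infer_instance

/-- The multiple of the vector of a code: the tables contain them. -/
theorem cd_pow4 (j n : ℕ) : cd (4 ^ j) n = if n = j then 1 else 0 := by
  have e : (4 : ℕ) ^ j = 2 ^ (2 * j) := by
    rw [pow_mul]
    norm_num
  rw [e]
  simp only [cd, Nat.testBit_two_pow]
  by_cases h : n = j
  · subst h
    simp
    rfl
  · have h1 : ¬ (2 * j = 2 * n) := by omega
    have h2 : ¬ (2 * j = 2 * n + 1) := by omega
    simp [h, h1, h2]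
    rfl

section Mat

variable {ι : Type*} [Fintype ι] [DecidableEq ι] (e : ι ≃ Fin 78)

/-- The vector of a code. -/
def vec (c : ℕ) : ι → F4 := fun i => cd c (e i).val

/-- `T` is a table of `M`. -/
def HasT (M : Matrix ι ι F4) (T : Tab) : Prop := ∀ i j, M i j = cd (colT T (e j).val) (e i).val

theorem vec_xor (a b : ℕ) : vec e (Nat.xor a b) = vec e a + vec e b := by
  funext i
  exact cd_xor a b _

theorem vec_zero : vec e 0 = 0 := by
  funext i
  exact cd_zero _

variable {e}

theorem mulVec_vec {M : Matrix ι ι F4} {T : Tab} (hM : HasT e M T) (hT : Good T) (c : ℕ) :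
    M *ᵥ vec e c = vec e (ap T c) := by
  funext i
  have h1 := cd_ap hT.2 c (e i)
  rw [hT.1] at h1
  show _ = cd (ap T c) (e i).val
  rw [h1, ← Fin.sum_univ_eq_sum_range (fun j => cd c j * cd (colT T j) (e i).val) 78, ← e.sum_comp]
  simp only [Matrix.mulVec, dotProduct]
  apply Finset.sum_congr rfl
  intro j _
  rw [hM i j, mul_comm]
  rfl

variable (e)

theorem vec_pow4 (k : Fin 78) : vec e (4 ^ k.val) = Pi.single (e.symm k) 1 := by
  funext i
  show cd (4 ^ k.val) (e i).val = _
  rw [cd_pow4, Pi.single_apply]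
  by_cases h : i = e.symm k
  · subst h
    simp
  · rw [if_neg h, if_neg]
    intro h2
    apply h
    have : e i = k := Fin.ext h2
    rw [← this]
    simp

variable {e}

/-- Two matrices agreeing on the unit vectors are equal. -/
theorem ext_basis {A B : Matrix ι ι F4} (h : ∀ k : Fin 78, A *ᵥ vec e (4 ^ k.val) = B *ᵥ vec e (4 ^ k.val)) : A = B := by
  ext i j
  have h1 := h (e j)
  rw [vec_pow4, e.symm_apply_apply, Matrix.mulVec_single_one, Matrix.mulVec_single_one] at h1
  exact congrFun h1 i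

theorem eq_one_of_chk {A : Matrix ι ι F4} (h : ∀ k : Fin 78, A *ᵥ vec e (4 ^ k.val) = vec e (4 ^ k.val)) : A = 1 :=
  ext_basis (e := e) fun k => by rw [h k, Matrix.one_mulVec]

theorem hasT_of_chk {A : Matrix ι ι F4} {T : Tab} (h : ∀ k : Fin 78, A *ᵥ vec e (4 ^ k.val) = vec e (colT T k.val)) :
    HasT e A T := by
  intro i j
  have h1 := h (e j)
  rw [vec_pow4, e.symm_apply_apply, Matrix.mulVec_single_one] at h1
  exact congrFun h1 i

end Mat

/-- The product with a word of tables (the last letter acts first). -/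
noncomputable def apw : List Tab → ℕ → ℕ
  | [], v => v
  | T :: l, v => force (apw l v) (ap T)

/-- The `n`-th power of the action of a word. -/
noncomputable def pw (l : List Tab) : ℕ → ℕ → ℕ
  | 0, v => v
  | n + 1, v => force (apw l v) (pw l n)

theorem apw_cons (T : Tab) (l : List Tab) (v : ℕ) : apw (T :: l) v = ap T (apw l v) := force_eq _ _

theorem pw_succ (l : List Tab) (n v : ℕ) : pw l (n + 1) v = pw l n (apw l v) := force_eq _ _

section Word

variable {ι : Type*} [Fintype ι] [DecidableEq ι] {e : ι ≃ Fin 78}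

/-- The tables of a word of matrices. -/
inductive WordT (e : ι ≃ Fin 78) : List (Matrix ι ι F4) → List Tab → Prop
  | nil : WordT e [] []
  | cons {M : Matrix ι ι F4} {T : Tab} {l : List (Matrix ι ι F4)} {L : List Tab} :
      HasT e M T → Good T → WordT e l L → WordT e (M :: l) (T :: L)

theorem WordT.mulVec {l : List (Matrix ι ι F4)} {L : List Tab} (h : WordT e l L) (v : ℕ) :
    l.prod *ᵥ vec e v = vec e (apw L v) := by
  induction h generalizing v with
  | nil => simp [apw]
  | cons hM hT _ ih =>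
    rw [List.prod_cons, ← Matrix.mulVec_mulVec, ih, mulVec_vec hM hT, apw_cons]

theorem pw_mulVec {l : List (Matrix ι ι F4)} {L : List Tab} (h : WordT e l L) (n v : ℕ) :
    (l.prod ^ n) *ᵥ vec e v = vec e (pw L n v) := by
  induction n generalizing v with
  | zero => simp [pw]
  | succ n ih =>
    rw [pow_succ, ← Matrix.mulVec_mulVec, h.mulVec, ih, pw_succ]

/-- A relator from a check on the unit vectors. -/
theorem pow_eq_one_of_chk {l : List (Matrix ι ι F4)} {L : List Tab} (h : WordT e l L) (n : ℕ)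
    (hc : ∀ k : Fin 78, pw L n (4 ^ k.val) = 4 ^ k.val) : l.prod ^ n = 1 :=
  eq_one_of_chk (e := e) fun k => by rw [pw_mulVec h, hc]

theorem hasT_of_word {l : List (Matrix ι ι F4)} {L : List Tab} (h : WordT e l L) {T : Tab}
    (hc : ∀ k : Fin 78, apw L (4 ^ k.val) = colT T k.val) : HasT e l.prod T :=
  hasT_of_chk fun k => by rw [h.mulVec, hc]

end Word

end Cfsg.Agent.Lib.Tw2E6Fi22
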