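import Cfsg.Agent.Lib.Tw2E6Sub.Final
import Cfsg.Prelude.Def_KGroupFacts

/-!
# Three classes of subgroups in `²E₆(2)` from an irreducible subgroup with `Out` of order two
-/

set_option autoImplicit false
set_option maxRecDepth 1000000
set_option linter.unusedSectionVars false
set_option linter.unusedVariables false
set_option linter.unusedSimpArgs false

universe u

namespace Cfsg.Agent.Lib.Tw2E6Fi22

open Cfsg.Lie Cfsg.Agent.Lib.ChevBN.Elem Cfsg.Agent.Lib.ChevBN.Table Cfsg.Agent.Lib.ChevBN.Rel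
open Cfsg.Agent.Lib.ChevBN.FastData Cfsg.Agent.Lib.ChevBN.Fix Cfsg.Agent.Lib.ChevBN.Collect
open Cfsg.Agent.Lib.ChevBN.Opp
open Cfsg.Agent.Lib.Chevalley.CharDiag
open Cfsg.Agent.Lib.Twisted Cfsg.Agent.Lib.Twisted.E6 Cfsg.Agent.Lib.Tw2E6Max Cfsg.Agent.Lib.Tw2E6Sub
open Cfsg.Agent.Lib.Chevalley.Tbl.E6 (sys comm)

universe v

variable {K : Type u} [Field K] {S : Type v} [Group S] (Ψ : S →* GL chevE6.Idx K)

set_option quotPrecheck false in
/-- The root elements. -/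
local notation "Xr" => X (sys (F := _)).toAddRel


theorem out_square (hc : Nat.card (Cfsg.Out S) = 2) (α : MulAut S) : ∃ h : S, MulAut.conj h = α * α := by
  haveI : Finite (Cfsg.Out S) := Nat.finite_of_card_ne_zero (by omega)
  have h1 : ((QuotientGroup.mk α : Cfsg.Out S)) ^ 2 = 1 := by
    rw [← hc]
    exact pow_card_eq_one'
  have h2 : (QuotientGroup.mk (α * α) : Cfsg.Out S) = 1 := by
    rw [QuotientGroup.mk_mul, ← sq]
    exact h1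
  have h3 : α * α ∈ Cfsg.Inn S := (QuotientGroup.eq_one_iff _).1 h2
  obtain ⟨h, hh⟩ := h3
  exact ⟨h, hh⟩

theorem exists_comm (hinj : Function.Injective Ψ) (hout : Nat.card (Cfsg.Out S) = 2) {x : GL chevE6.Idx K}
    (hx : Ψ.range.map (MulAut.conj x).toMonoidHom = Ψ.range) :
    ∃ h : S, ∀ m, Commute ((Ψ h)⁻¹ * (x * x)) (Ψ m) := by
  let e : S ≃* Ψ.range := MonoidHom.ofInjective hinj
  let c : Ψ.range ≃* Ψ.range :=
    ((MulAut.conj x).subgroupMap Ψ.range).trans (MulEquiv.subgroupCongr hx)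
  let α : MulAut S := e.trans (c.trans e.symm)
  have hα : ∀ m, Ψ (α m) = x * Ψ m * x⁻¹ := by
    intro m
    have h1 : e (α m) = c (e m) := by
      show e (e.symm (c (e m))) = c (e m)
      exact e.apply_symm_apply _
    have h2 := congrArg Subtype.val h1
    exact h2
  obtain ⟨h, hh⟩ := out_square hout α
  refine ⟨h, fun m => ?_⟩
  have e2 : Ψ (α (α m)) = Ψ h * Ψ m * (Ψ h)⁻¹ := by
    have h1 : α (α m) = h * m * h⁻¹ := by
      have h2 := congrArg (fun β : MulAut S => β m) hh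
      exact h2.symm
    rw [h1, map_mul, map_mul, map_inv]
  rw [hα, hα] at e2
  show (Ψ h)⁻¹ * (x * x) * Ψ m = Ψ m * ((Ψ h)⁻¹ * (x * x))
  calc (Ψ h)⁻¹ * (x * x) * Ψ m = (Ψ h)⁻¹ * (x * (x * Ψ m * x⁻¹) * x⁻¹) * (x * x) := by group
    _ = (Ψ h)⁻¹ * (Ψ h * Ψ m * (Ψ h)⁻¹) * (x * x) := by rw [e2]
    _ = _ := by group

section Main

variable [Fintype K] {φ : K →+* K} {T : Tw (sys (F := K)).toAddRel}
  (hinj : Function.Injective Ψ) (hout : Nat.card (Cfsg.Out S) = 2) (hmem : ∀ m, Ψ m ∈ twistedE6 K 2)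
  (hsc : ∀ C : Matrix chevE6.Idx chevE6.Idx K, (∀ m, Commute C ((Ψ m : GL chevE6.Idx K) : Matrix chevE6.Idx chevE6.Idx K)) →
    ∃ μ : K, C = μ • (1 : Matrix chevE6.Idx chevE6.Idx K))
  (hφ : ∀ t, φ t = t ^ 2) (f₂ : ZMod 2 →+* K) (I : Inst sys tbl_chevE6 T Js cl (twistedE6 K 2))
  {χ : ℕ → Kˣ} (hχ : chevE6.IsRootCharacter χ)
  (c46 : (χ 46 : K) = 1) (c25 : (χ 25 : K) = 1) (c39 : (χ 39 : K) = 1) (c32 : (χ 32 : K) = 1)
  (c56 : φ (χ 56 : K) = (χ 36 : K)) (c15 : φ (χ 15 : K) = (χ 35 : K)) (c42 : φ (χ 42 : K) = (χ 37 : K))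
  (c29 : φ (χ 29 : K) = (χ 34 : K)) {ω : K} (hω : ω ≠ 1) (hω0 : ω ≠ 0) (c56' : (χ 56 : K) = ω) (c36' : (χ 36 : K) = ω⁻¹)
  (c42' : (χ 42 : K) = 1) (c37' : (χ 37 : K) = 1)
  (hK3 : ∀ x : K, x ≠ 0 → x ^ 3 = 1)

include hinj hout hmem hsc hφ f₂ I hχ c46 c25 c39 c32 c56 c15 c42 c29 hω hω0 c56' c36' c42' c37' hK3

/-- Two different powers of the diagonal element give different classes. -/
theorem main_non {i j : ℕ} (hij : (4 * j + 2 * i) % 3 ≠ 0) {g : GL chevE6.Idx K} (hg : g ∈ twistedE6 K 2)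
    (hx : Ψ.range.map (MulAut.conj ((dd χ ^ j)⁻¹ * g * dd χ ^ i)).toMonoidHom = Ψ.range) : False := by
  have h3 : ∀ r, (χ r : K) ^ 3 = 1 := fun r => hK3 _ (χ r).ne_zero
  have hcube : dd χ * dd χ * dd χ = 1 := dd_cube h3
  have hinv : (dd χ)⁻¹ = dd χ * dd χ := inv_eq_of_mul_eq_one_left hcube
  have hinvk : ∀ k, (dd χ ^ k)⁻¹ = dd χ ^ (2 * k) := by
    intro k
    rw [← inv_pow, hinv, ← sq, ← pow_mul]
  have hN := @dd_pow_norm K _ χ hχ φ hφ c46 c25 c39 c32 c56 c15 c42 c29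
  have hN' : ∀ (k : ℕ) {y : GL chevE6.Idx K}, y ∈ twistedE6 K 2 → (dd χ ^ k)⁻¹ * y * dd χ ^ k ∈ twistedE6 K 2 := by
    intro k y hy
    have h1 := hN (2 * k) hy
    rw [← hinvk, inv_inv] at h1
    exact h1
  let P : ℕ → GL chevE6.Idx K → Prop := fun k y => ∃ g₀ ∈ twistedE6 K 2, y = dd χ ^ k * g₀
  have Pmul : ∀ {k l : ℕ} {a b : GL chevE6.Idx K}, P k a → P l b → P (k + l) (a * b) := by
    rintro k l a b ⟨g₁, h1, rfl⟩ ⟨g₂, h2, rfl⟩
    refine ⟨(dd χ ^ l)⁻¹ * g₁ * dd χ ^ l * g₂, Subgroup.mul_mem _ (hN' l h1) h2, ?_⟩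
    rw [pow_add]
    group
  have Ppow : ∀ k, P k (dd χ ^ k) := fun k => ⟨1, Subgroup.one_mem _, by simp⟩
  have Pg : ∀ {y : GL chevE6.Idx K}, y ∈ twistedE6 K 2 → P 0 y := fun {y} hy => ⟨y, hy, by simp⟩
  obtain ⟨h, hh⟩ := exists_comm Ψ hinj hout hx
  set x := (dd χ ^ j)⁻¹ * g * dd χ ^ i with hxdef
  have Px : P (2 * j + 0 + i) x := by
    rw [hxdef, hinvk]
    exact Pmul (Pmul (Ppow _) (Pg hg)) (Ppow _)
  have Pc : P (0 + ((2 * j + 0 + i) + (2 * j + 0 + i))) ((Ψ h)⁻¹ * (x * x)) :=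
    Pmul (Pg (Subgroup.inv_mem _ (hmem h))) (Pmul Px Px)
  have ek : 0 + ((2 * j + 0 + i) + (2 * j + 0 + i)) = 4 * j + 2 * i := by ring
  rw [ek] at Pc
  obtain ⟨g₀, hg₀, hc⟩ := Pc
  have hcomm : ∀ m, Commute ((((Ψ h)⁻¹ * (x * x) : GL chevE6.Idx K)) : Matrix chevE6.Idx chevE6.Idx K)
      ((Ψ m : GL chevE6.Idx K) : Matrix chevE6.Idx chevE6.Idx K) := by
    intro m
    have h4 := congrArg Units.val (hh m).eq
    exact h4
  obtain ⟨μ, hμ⟩ := hsc _ hcomm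
  have hSc : ∀ m ∈ (⊤ : Subgroup (GL chevE6.Idx K)), Commute (dd χ ^ (4 * j + 2 * i) * g₀) m := by
    intro m _
    rw [← hc]
    have e1 : ∀ c : GL chevE6.Idx K, (c : Matrix chevE6.Idx chevE6.Idx K) = μ • 1 → Commute c m := by
      intro c hc'
      show c * m = m * c
      apply Units.ext
      rw [Units.val_mul, Units.val_mul, hc']
      simp [Matrix.smul_mul, Matrix.mul_smul]
    exact e1 _ hμ
  have ha : ω ^ (4 * j + 2 * i) ≠ 1 := by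
    have hω3 := hK3 ω hω0
    rw [pow_eq_pow_mod _ hω3]
    have hlt : (4 * j + 2 * i) % 3 < 3 := Nat.mod_lt _ (by decide)
    generalize (4 * j + 2 * i) % 3 = n at hij hlt
    interval_cases n
    · exact absurd rfl hij
    · simpa using hω
    · intro h2
      apply hω
      have : ω ^ 3 = ω ^ 2 * ω := by ring
      rw [h2, one_mul] at this
      rw [← this, hω3]
  refine no_cent I (dd_pow_Sc hχ (4 * j + 2 * i)) (a := ω ^ (4 * j + 2 * i)) ha (pow_ne_zero _ hω0) ?_ ?_ ?_ ?_ ?_ ?_ hK3 hg₀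
    hSc (Subgroup.mem_top _) (Subgroup.mem_top _) (Subgroup.mem_top _) (Subgroup.mem_top _) (Subgroup.mem_top _)
    (H0_le f₂ hφ (m_Ns f₂))
  · intro t
    rw [dd_pow_conj hχ _ (by decide +kernel), c46, one_pow, one_mul]
  · intro t
    rw [dd_pow_conj hχ _ (by decide +kernel), c39, one_pow, one_mul]
  · intro t
    rw [dd_pow_conj hχ _ (by decide +kernel), c42', one_pow, one_mul]
  · intro t
    rw [dd_pow_conj hχ _ (by decide +kernel), c37', one_pow, one_mul]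
  · intro t
    rw [dd_pow_conj hχ _ (by decide +kernel), c56']
  · intro t
    rw [dd_pow_conj hχ _ (by decide +kernel), c36', inv_pow]

end Main

/-- The conjugates of the image. -/
noncomputable def Hs (χ : ℕ → Kˣ) (k : ℕ) : Subgroup (Cfsg.Lie.twistedE6 K 2) :=
  (Ψ.range.map (MulAut.conj (dd χ ^ k)).toMonoidHom).subgroupOf (twistedE6 K 2)

/-- Three classes of subgroups of `²E₆(2)` from an irreducible subgroup with `Out` of order two. -/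
theorem three_gen [Fintype K] (hK : Fintype.card K = 4) (hinj : Function.Injective Ψ) (hout : Nat.card (Cfsg.Out S) = 2)
    (hmem : ∀ m, Ψ m ∈ twistedE6 K 2)
    (hsc : ∀ C : Matrix chevE6.Idx chevE6.Idx K, (∀ m, Commute C ((Ψ m : GL chevE6.Idx K) : Matrix chevE6.Idx chevE6.Idx K)) →
      ∃ μ : K, C = μ • (1 : Matrix chevE6.Idx chevE6.Idx K)) :
    ∃ H : Fin 3 → Subgroup (Cfsg.Lie.twistedE6 K 2),
      (∀ i, Nonempty ((H i) ≃* S)) ∧
      (∀ i j, i ≠ j → ∀ g : (Cfsg.Lie.twistedE6 K 2), (H i).map (MulAut.conj g).toMonoidHom ≠ H j) := by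
  classical
  have hK2 : Fintype.card K = 2 ^ 2 := by rw [hK]; norm_num
  obtain ⟨φ, T, hφ, hφ2, hρ, hτ, I⟩ := main (K := K) (q := 2) Nat.prime_two.isPrimePow hK2
  have hK3 : ∀ x : K, x ≠ 0 → x ^ 3 = 1 := by
    intro x hx
    have := FiniteField.pow_card_sub_one_eq_one x hx
    rwa [hK] at this
  have h20 : (2 : K) = 0 := by
    have h1 := map_add φ 1 1
    rw [hφ, map_one, one_add_one_eq_two] at h1
    have h2 : (2 : K) * (2 - 1) = 0 := by linear_combination h1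
    rcases mul_eq_zero.1 h2 with h | h
    · exact h
    · exfalso
      have h3 : (2 : K) = 1 := sub_eq_zero.1 h
      have h4 : (1 : K) + 1 = 1 := by rw [one_add_one_eq_two, h3]
      simpa using h4
  haveI : CharP K 2 := CharTwo.of_one_ne_zero_of_two_eq_zero one_ne_zero h20
  let f₂ : ZMod 2 →+* K := ZMod.castHom (dvd_refl 2) K
  obtain ⟨ω, hω0, hω⟩ : ∃ ω : K, ω ≠ 0 ∧ ω ≠ 1 := by
    have hc : ({0, 1} : Finset K).card < (Finset.univ : Finset K).card := by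
      rw [Finset.card_univ, hK]
      exact lt_of_le_of_lt Finset.card_le_two (by norm_num)
    obtain ⟨x, -, hx⟩ := Finset.exists_mem_notMem_of_card_lt_card hc
    refine ⟨x, fun h => hx (by simp [h]), fun h => hx (by simp [h])⟩
  have hω3 := hK3 ω hω0
  let u : Kˣ := Units.mk0 ω hω0
  let c : ℕ → Kˣ := fun i => if i = 0 then u else if i = 5 then u⁻¹ else 1
  obtain ⟨χ, hχ, hs⟩ := Cfsg.Agent.Lib.ChevAut.exists_char (D := chevE6) (F := K) (by simp) c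
  obtain ⟨e0, e1, e2, e3, e4, e5⟩ := e_s
  obtain ⟨n0, n1, n2, n3, n4, n5⟩ := e_n
  have x56 : χ 56 = u := by rw [← e0, hs 0 (by decide)]; rfl
  have x46 : χ 46 = 1 := by rw [← e1, hs 1 (by decide)]; rfl
  have x42 : χ 42 = 1 := by rw [← e2, hs 2 (by decide)]; rfl
  have x39 : χ 39 = 1 := by rw [← e3, hs 3 (by decide)]; rfl
  have x37 : χ 37 = 1 := by rw [← e4, hs 4 (by decide)]; rfl
  have x36 : χ 36 = u⁻¹ := by rw [← e5, hs 5 (by decide)]; rfl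
  have x15 : χ 15 = u⁻¹ := by rw [← n0, hχ.1 56 (by decide +kernel), x56]
  have x25 : χ 25 = 1 := by rw [← n1, hχ.1 46 (by decide +kernel), x46, _root_.inv_one]
  have x29 : χ 29 = 1 := by rw [← n2, hχ.1 42 (by decide +kernel), x42, _root_.inv_one]
  have x32 : χ 32 = 1 := by rw [← n3, hχ.1 39 (by decide +kernel), x39, _root_.inv_one]
  have x34 : χ 34 = 1 := by rw [← n4, hχ.1 37 (by decide +kernel), x37, _root_.inv_one]
  have x35 : χ 35 = u := by rw [← n5, hχ.1 36 (by decide +kernel), x36, inv_inv]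
  have hφω : φ ω = ω⁻¹ := by
    rw [hφ]
    apply eq_inv_of_mul_eq_one_left
    rw [← hω3]
    ring
  have hφω' : φ ω⁻¹ = ω := by
    rw [map_inv₀, hφω, inv_inv]
  have c46 : (χ 46 : K) = 1 := by rw [x46, Units.val_one]
  have c25 : (χ 25 : K) = 1 := by rw [x25, Units.val_one]
  have c39 : (χ 39 : K) = 1 := by rw [x39, Units.val_one]
  have c32 : (χ 32 : K) = 1 := by rw [x32, Units.val_one]
  have c42' : (χ 42 : K) = 1 := by rw [x42, Units.val_one]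
  have c37' : (χ 37 : K) = 1 := by rw [x37, Units.val_one]
  have c56' : (χ 56 : K) = ω := by rw [x56]; rfl
  have c36' : (χ 36 : K) = ω⁻¹ := by rw [x36]; rfl
  have c15' : (χ 15 : K) = ω⁻¹ := by rw [x15]; rfl
  have c35' : (χ 35 : K) = ω := by rw [x35]; rfl
  have c56 : φ (χ 56 : K) = (χ 36 : K) := by rw [c56', c36', hφω]
  have c15 : φ (χ 15 : K) = (χ 35 : K) := by rw [c15', c35', hφω']
  have c42 : φ (χ 42 : K) = (χ 37 : K) := by rw [c42', c37', map_one]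
  have c29 : φ (χ 29 : K) = (χ 34 : K) := by rw [x29, x34, Units.val_one, map_one]
  have hN := @dd_pow_norm K _ χ hχ φ hφ c46 c25 c39 c32 c56 c15 c42 c29
  have hle : ∀ k : ℕ, Ψ.range.map (MulAut.conj (dd χ ^ k)).toMonoidHom ≤ twistedE6 K 2 := by
    rintro k _ ⟨_, ⟨m, rfl⟩, rfl⟩
    exact hN k (hmem m)
  refine ⟨fun i => Hs Ψ χ (i : ℕ), ?_, ?_⟩
  · intro i
    show Nonempty ((Hs Ψ χ (i : ℕ)) ≃* S)
    exact ⟨(Subgroup.subgroupOfEquivOfLe (hle i)).trans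
      ((Subgroup.equivMapOfInjective Ψ.range _ (MulAut.conj (dd χ ^ (i : ℕ))).injective).symm.trans
        (MonoidHom.ofInjective hinj).symm)⟩
  · intro i j hij g he
    have he' : (Hs Ψ χ (i : ℕ)).map (MulAut.conj g).toMonoidHom = Hs Ψ χ (j : ℕ) := he
    have hij' : (4 * (j : ℕ) + 2 * (i : ℕ)) % 3 ≠ 0 := by
      have h1 := i.2
      have h2 := j.2
      have h3 : (i : ℕ) ≠ j := fun h => hij (Fin.ext h)
      omega
    refine main_non Ψ hinj hout hmem hsc hφ f₂ I hχ c46 c25 c39 c32 c56 c15 c42 c29 hω hω0 c56' c36' c42' c37' hK3 hij' g.2 ?_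
    apply le_antisymm
    · rintro _ ⟨_, ⟨m, rfl⟩, rfl⟩
      let mi : ↥(twistedE6 K 2) := ⟨dd χ ^ (i : ℕ) * Ψ m * (dd χ ^ (i : ℕ))⁻¹, hN i (hmem m)⟩
      have h1 : mi ∈ Hs Ψ χ (i : ℕ) := Subgroup.mem_subgroupOf.2 ⟨_, ⟨m, rfl⟩, rfl⟩
      have h2 : (MulAut.conj g).toMonoidHom mi ∈ Hs Ψ χ (j : ℕ) := by
        rw [← he']
        exact ⟨mi, h1, rfl⟩
      obtain ⟨_, ⟨m', rfl⟩, e2⟩ := Subgroup.mem_subgroupOf.1 h2
      refine ⟨m', ?_⟩
      have e3 : dd χ ^ (j : ℕ) * Ψ m' * (dd χ ^ (j : ℕ))⁻¹ =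
          (g : GL chevE6.Idx K) * (dd χ ^ (i : ℕ) * Ψ m * (dd χ ^ (i : ℕ))⁻¹) * (g : GL chevE6.Idx K)⁻¹ := e2
      show Ψ m' = ((dd χ ^ (j : ℕ))⁻¹ * (g : GL chevE6.Idx K) * dd χ ^ (i : ℕ)) * Ψ m *
        ((dd χ ^ (j : ℕ))⁻¹ * (g : GL chevE6.Idx K) * dd χ ^ (i : ℕ))⁻¹
      have e4 : Ψ m' = (dd χ ^ (j : ℕ))⁻¹ * (dd χ ^ (j : ℕ) * Ψ m' * (dd χ ^ (j : ℕ))⁻¹) * dd χ ^ (j : ℕ) := by group
      rw [e4, e3]
      group
    · rintro _ ⟨m', rfl⟩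
      let mj : ↥(twistedE6 K 2) := ⟨dd χ ^ (j : ℕ) * Ψ m' * (dd χ ^ (j : ℕ))⁻¹, hN j (hmem m')⟩
      have h1 : mj ∈ Hs Ψ χ (j : ℕ) := Subgroup.mem_subgroupOf.2 ⟨_, ⟨m', rfl⟩, rfl⟩
      rw [← he'] at h1
      obtain ⟨z, hz, e1⟩ := h1
      obtain ⟨_, ⟨m, rfl⟩, e2⟩ := Subgroup.mem_subgroupOf.1 hz
      refine ⟨Ψ m, ⟨m, rfl⟩, ?_⟩
      have e3 : (g : GL chevE6.Idx K) * (z : GL chevE6.Idx K) * (g : GL chevE6.Idx K)⁻¹ =
          dd χ ^ (j : ℕ) * Ψ m' * (dd χ ^ (j : ℕ))⁻¹ := congrArg Subtype.val e1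
      have e4 : dd χ ^ (i : ℕ) * Ψ m * (dd χ ^ (i : ℕ))⁻¹ = (z : GL chevE6.Idx K) := e2
      show ((dd χ ^ (j : ℕ))⁻¹ * (g : GL chevE6.Idx K) * dd χ ^ (i : ℕ)) * Ψ m *
        ((dd χ ^ (j : ℕ))⁻¹ * (g : GL chevE6.Idx K) * dd χ ^ (i : ℕ))⁻¹ = Ψ m'
      have e5 : Ψ m' = (dd χ ^ (j : ℕ))⁻¹ * (dd χ ^ (j : ℕ) * Ψ m' * (dd χ ^ (j : ℕ))⁻¹) * dd χ ^ (j : ℕ) := by group
      rw [e5, ← e3, ← e4]
      group

end Cfsg.Agent.Lib.Tw2E6Fi22
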