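import Cfsg.Agent.Lib.Tw2E6Fi22.Irr
import Cfsg.Agent.Lib.Tw2E6Fi22.Gen3
import Cfsg.Agent.S1696
import Cfsg.Agent.S2079

/-!
# Three classes of subgroups `Fi₂₂` in `²E₆(2)`
-/

set_option autoImplicit false
set_option maxRecDepth 1000000
set_option linter.unusedSectionVars false
set_option linter.unusedVariables false
set_option linter.unusedSimpArgs false

universe u

namespace Cfsg.Agent.Lib.Tw2E6Fi22

open Cfsg.Lie Cfsg.Agent.Lib.ChevBN.Elem Cfsg.Agent.Lib.ChevBN.Fix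
open Cfsg.Agent.Lib.Twisted Cfsg.Agent.Lib.Twisted.E6
open Cfsg.Agent.Lib.Compute.GF4
open Cfsg.Spor.Fi22 (Gen)

variable {K : Type u} [Field K] (f : F4 →+* K)

theorem phi_inj : Function.Injective (Phi f) := by
  have hs : IsSimpleGroup Cfsg.Spor.Fi22 := Cfsg.Agent.S1696.result.1
  rcases hs.eq_bot_or_eq_top_of_normal (Phi f).ker inferInstance with h | h
  · exact (MonoidHom.ker_eq_bot_iff _).1 h
  · exfalso
    have h1 : PresentedGroup.of Gen.a ∈ (Phi f).ker := by
      rw [h]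
      exact Subgroup.mem_top _
    have h2 : mapG chevE6 f (rho (PresentedGroup.of Gen.a)) = 1 := h1
    rw [rho_of] at h2
    have h3 : genG Gen.a = 1 := mapG_inj f f.injective (by rw [h2, map_one])
    exact rho_ne h3

theorem phi_sc (C : Matrix chevE6.Idx chevE6.Idx K) (h : ∀ m, Commute C ((Phi f m : GL chevE6.Idx K) : Matrix chevE6.Idx chevE6.Idx K)) :
    ∃ μ : K, C = μ • (1 : Matrix chevE6.Idx chevE6.Idx K) := by
  refine scalar_of_comm f C fun y => ?_
  have h1 := h (PresentedGroup.of y)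
  have h2 : Phi f (PresentedGroup.of y) = mapG chevE6 f (genG y) := by
    show mapG chevE6 f (rho _) = _
    rw [rho_of]
  rw [h2] at h1
  exact h1

/-- `²E₆(2)` has three classes of subgroups `Fi₂₂`. -/
theorem exists_three [Fintype K] (hK : Fintype.card K = 4) :
    ∃ H : Fin 3 → Subgroup (Cfsg.Lie.twistedE6 K 2),
      (∀ i, Cfsg.Spor.IsoFi22 (H i)) ∧
      (∀ i j, i ≠ j → ∀ g : (Cfsg.Lie.twistedE6 K 2), (H i).map (MulAut.conj g).toMonoidHom ≠ H j) := by
  classical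
  have hK2 : Fintype.card K = 2 ^ 2 := by rw [hK]; norm_num
  obtain ⟨φ, T, hφ, hφ2, hρ, hτ, I⟩ := main (K := K) (q := 2) Nat.prime_two.isPrimePow hK2
  let f : F4 →+* K := ((equivOfCard K hK).symm : F4 ≃+* K).toRingHom
  obtain ⟨H, h1, h2⟩ := three_gen (Phi f) hK (phi_inj f) Cfsg.Agent.S2079.result (phi_mem f hφ) (phi_sc f)
  exact ⟨H, h1, h2⟩

end Cfsg.Agent.Lib.Tw2E6Fi22
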