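import Cfsg.Agent.Lib.Tw2E6Fi22.GoodF

/-! # Checks of tables -/

set_option autoImplicit false
set_option maxRecDepth 100000
set_option linter.unusedSectionVars false
set_option linter.unusedVariables false

namespace Cfsg.Agent.Lib.Tw2E6Fi22

open Cfsg.Lie Cfsg.Agent.Lib.Compute.GF4

set_option maxHeartbeats 0

theorem g_tx46_0 : Good tx46_0 := good_fast (by decide +kernel) (by decide +kernel)

theorem g_tx32_0 : Good tx32_0 := good_fast (by decide +kernel) (by decide +kernel)

theorem g_tx15_0 : Good tx15_0 := good_fast (by decide +kernel) (by decide +kernel)

theorem g_tx37_0 : Good tx37_0 := good_fast (by decide +kernel) (by decide +kernel)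

theorem g_tx56_1 : Good tx56_1 := good_fast (by decide +kernel) (by decide +kernel)

theorem g_tl5 : Good tl5 := good_fast (by decide +kernel) (by decide +kernel)

theorem g_tl8 : Good tl8 := good_fast (by decide +kernel) (by decide +kernel)

theorem g_tC : Good tC := good_fast (by decide +kernel) (by decide +kernel)

theorem g_tF : Good tF := good_fast (by decide +kernel) (by decide +kernel)

theorem g_tI : Good tI := good_fast (by decide +kernel) (by decide +kernel)

theorem g_tSi : Good tSi := good_fast (by decide +kernel) (by decide +kernel)

theorem g_tW3 : Good tW3 := good_fast (by decide +kernel) (by decide +kernel)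


end Cfsg.Agent.Lib.Tw2E6Fi22
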