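import Cfsg.Agent.Lib.Tw2E6Fi22.GoodF

/-! # Checks of tables -/

set_option autoImplicit false
set_option maxRecDepth 100000
set_option linter.unusedSectionVars false
set_option linter.unusedVariables false

namespace Cfsg.Agent.Lib.Tw2E6Fi22

open Cfsg.Lie Cfsg.Agent.Lib.Compute.GF4

set_option maxHeartbeats 0

theorem g_tx25_0 : Good tx25_0 := good_fast (by decide +kernel) (by decide +kernel)

theorem g_tx56_0 : Good tx56_0 := good_fast (by decide +kernel) (by decide +kernel)

theorem g_tx35_0 : Good tx35_0 := good_fast (by decide +kernel) (by decide +kernel)

theorem g_tx29_0 : Good tx29_0 := good_fast (by decide +kernel) (by decide +kernel)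

theorem g_tx36_2 : Good tx36_2 := good_fast (by decide +kernel) (by decide +kernel)

theorem g_tl6 : Good tl6 := good_fast (by decide +kernel) (by decide +kernel)

theorem g_tA : Good tA := good_fast (by decide +kernel) (by decide +kernel)

theorem g_tD : Good tD := good_fast (by decide +kernel) (by decide +kernel)

theorem g_tG : Good tG := good_fast (by decide +kernel) (by decide +kernel)

theorem g_tRi : Good tRi := good_fast (by decide +kernel) (by decide +kernel)

theorem g_tW1 : Good tW1 := good_fast (by decide +kernel) (by decide +kernel)


end Cfsg.Agent.Lib.Tw2E6Fi22
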