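import Cfsg.Agent.Lib.Tw2E6Fi22.GoodF

/-! # Checks of tables -/

set_option autoImplicit false
set_option maxRecDepth 100000
set_option linter.unusedSectionVars false
set_option linter.unusedVariables false

namespace Cfsg.Agent.Lib.Tw2E6Fi22

open Cfsg.Lie Cfsg.Agent.Lib.Compute.GF4

set_option maxHeartbeats 0

theorem g_tx39_0 : Good tx39_0 := good_fast (by decide +kernel) (by decide +kernel)

theorem g_tx36_0 : Good tx36_0 := good_fast (by decide +kernel) (by decide +kernel)

theorem g_tx42_0 : Good tx42_0 := good_fast (by decide +kernel) (by decide +kernel)

theorem g_tx34_0 : Good tx34_0 := good_fast (by decide +kernel) (by decide +kernel)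

theorem g_tl4 : Good tl4 := good_fast (by decide +kernel) (by decide +kernel)

theorem g_tl7 : Good tl7 := good_fast (by decide +kernel) (by decide +kernel)

theorem g_tB : Good tB := good_fast (by decide +kernel) (by decide +kernel)

theorem g_tE : Good tE := good_fast (by decide +kernel) (by decide +kernel)

theorem g_tH : Good tH := good_fast (by decide +kernel) (by decide +kernel)

theorem g_tBas : Good tBas := good_fast (by decide +kernel) (by decide +kernel)

theorem g_tW2 : Good tW2 := good_fast (by decide +kernel) (by decide +kernel)


end Cfsg.Agent.Lib.Tw2E6Fi22
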