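import Cfsg.Agent.Lib.Tw2E6Fi22.Base

/-! # A fast check of the lines of a table -/

set_option autoImplicit false
set_option maxRecDepth 100000
set_option linter.unusedSectionVars false
set_option linter.unusedVariables false

namespace Cfsg.Agent.Lib.Tw2E6Fi22

open Cfsg.Agent.Lib.Compute.GF4

/-- The mask of the even bits. -/
def maskL : ℕ := 30447950777727144129243434014922562909498594645

theorem mask_even : ∀ k : Fin 78, maskL.testBit (2 * k.val) = true := by decide +kernel

theorem mask_odd : ∀ k : Fin 78, maskL.testBit (2 * k.val + 1) = false := by decide +kernel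

/-- The low bits. -/
def loB (p : ℕ) : ℕ := Nat.land p maskL

/-- The high bits. -/
def hiB (p : ℕ) : ℕ := Nat.land (Nat.shiftRight p 1) maskL

/-- The check of a line. -/
def lineOK (t : ℕ × ℕ × ℕ) : Bool :=
  Nat.beq t.2.1 (Nat.xor (hiB t.1) (Nat.shiftLeft (Nat.xor (loB t.1) (hiB t.1)) 1)) &&
  Nat.beq t.2.2 (Nat.xor (Nat.xor (loB t.1) (hiB t.1)) (Nat.shiftLeft (loB t.1) 1))

theorem dec_w (a b : Bool) : dec b (xor a b) = F4.w * dec a b := by
  revert a b
  decide

theorem dec_v (a b : Bool) : dec (xor a b) a = F4.v * dec a b := by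
  revert a b
  decide

theorem lo_even (p : ℕ) (k : Fin 78) : (loB p).testBit (2 * k.val) = p.testBit (2 * k.val) := by
  have h : (loB p).testBit (2 * k.val) = (p.testBit (2 * k.val) && maskL.testBit (2 * k.val)) := Nat.testBit_and _ _ _
  rw [h, mask_even k, Bool.and_true]

theorem lo_odd (p : ℕ) (k : Fin 78) : (loB p).testBit (2 * k.val + 1) = false := by
  have h : (loB p).testBit (2 * k.val + 1) = (p.testBit (2 * k.val + 1) && maskL.testBit (2 * k.val + 1)) := Nat.testBit_and _ _ _
  rw [h, mask_odd k, Bool.and_false]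

theorem hi_even (p : ℕ) (k : Fin 78) : (hiB p).testBit (2 * k.val) = p.testBit (2 * k.val + 1) := by
  have h : (hiB p).testBit (2 * k.val) = ((Nat.shiftRight p 1).testBit (2 * k.val) && maskL.testBit (2 * k.val)) := Nat.testBit_and _ _ _
  have h2 : (Nat.shiftRight p 1).testBit (2 * k.val) = p.testBit (1 + 2 * k.val) := Nat.testBit_shiftRight p
  rw [h, mask_even k, Bool.and_true, h2, add_comm]

theorem hi_odd (p : ℕ) (k : Fin 78) : (hiB p).testBit (2 * k.val + 1) = false := by
  have h : (hiB p).testBit (2 * k.val + 1) = ((Nat.shiftRight p 1).testBit (2 * k.val + 1) && maskL.testBit (2 * k.val + 1)) := Nat.testBit_and _ _ _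
  rw [h, mask_odd k, Bool.and_false]

theorem tb_xor (a b j : ℕ) : (Nat.xor a b).testBit j = xor (a.testBit j) (b.testBit j) := Nat.testBit_xor a b j

theorem shl_odd (x : ℕ) (k : ℕ) : (Nat.shiftLeft x 1).testBit (2 * k + 1) = x.testBit (2 * k) := by
  have h : (Nat.shiftLeft x 1).testBit (2 * k + 1) = (decide (2 * k + 1 ≥ 1) && x.testBit (2 * k + 1 - 1)) := Nat.testBit_shiftLeft x
  rw [h]
  simp

theorem shl_even (x : ℕ) (hx : ∀ k : Fin 78, x.testBit (2 * k.val + 1) = false) (k : Fin 78) :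
    (Nat.shiftLeft x 1).testBit (2 * k.val) = false := by
  have h : (Nat.shiftLeft x 1).testBit (2 * k.val) = (decide (2 * k.val ≥ 1) && x.testBit (2 * k.val - 1)) := Nat.testBit_shiftLeft x
  rw [h]
  by_cases h0 : k.val = 0
  · rw [h0]
    simp
  · have h1 : k.val - 1 < 78 := by omega
    have h2 := hx ⟨k.val - 1, h1⟩
    have h3 : 2 * (k.val - 1) + 1 = 2 * k.val - 1 := by omega
    simp only at h2
    rw [h3] at h2
    rw [h2, Bool.and_false]

theorem x_odd (p : ℕ) (k : Fin 78) : (Nat.xor (loB p) (hiB p)).testBit (2 * k.val + 1) = false := by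
  rw [tb_xor, lo_odd, hi_odd]
  rfl

theorem wf_of_lineOK {t : ℕ × ℕ × ℕ} (h : lineOK t = true) : WF t := by
  obtain ⟨p, q, r⟩ := t
  simp only [lineOK, Bool.and_eq_true] at h
  obtain ⟨h1, h2⟩ := h
  have e1 : q = Nat.xor (hiB p) (Nat.shiftLeft (Nat.xor (loB p) (hiB p)) 1) := Nat.eq_of_beq_eq_true h1
  have e2 : r = Nat.xor (Nat.xor (loB p) (hiB p)) (Nat.shiftLeft (loB p) 1) := Nat.eq_of_beq_eq_true h2
  intro k
  have hc : ∀ n : ℕ, cd n k.val = dec (n.testBit (2 * k.val)) (n.testBit (2 * k.val + 1)) := fun n => rfl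
  constructor
  · show cd q k.val = F4.w * cd p k.val
    rw [hc, hc p, ← dec_w, e1, tb_xor, tb_xor, hi_even, hi_odd, shl_even _ (x_odd p) k, shl_odd, tb_xor, lo_even, hi_even]
    simp
  · show cd r k.val = F4.v * cd p k.val
    have hl : ∀ k : Fin 78, (loB p).testBit (2 * k.val + 1) = false := lo_odd p
    rw [hc, hc p, ← dec_v, e2, tb_xor, tb_xor, tb_xor, tb_xor, lo_even, hi_even, lo_odd, hi_odd, shl_even _ hl k, shl_odd, lo_even]
    simp

/-- A fast check of a table. -/
theorem good_fast {T : Tab} (h1 : T.length = 78) (h2 : T.all lineOK = true) : Good T :=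
  ⟨h1, fun t ht => wf_of_lineOK (List.all_eq_true.1 h2 t ht)⟩

end Cfsg.Agent.Lib.Tw2E6Fi22
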