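import Cfsg.Agent.Lib.Tw2E6Fi22.Lift

/-!
# The commutant of the representation of degree 78 consists of scalars
-/

set_option autoImplicit false
set_option maxRecDepth 100000
set_option linter.unusedSectionVars false
set_option linter.unusedVariables false
set_option linter.unusedSimpArgs false

universe u

namespace Cfsg.Agent.Lib.Tw2E6Fi22

open Cfsg.Lie Cfsg.Agent.Lib.ChevBN.Elem Cfsg.Agent.Lib.Compute.GF4 Cfsg.Agent.Lib.ChevBN.Fix
open Cfsg.Spor
open Cfsg.Spor.Fi22 (Gen edges extra)
open Matrix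

/-- The element of the group algebra, as a matrix. -/
noncomputable def mW : Matrix chevE6.Idx chevE6.Idx F4 :=
  1 + (List.map genM [Gen.h]).prod + (List.map genM [Gen.e, Gen.b, Gen.d, Gen.i, Gen.a]).prod

theorem mW_vec (c : ℕ) : mW *ᵥ vec eE c = vec eE (Wc c) := by
  have h1 := (genWord [Gen.h]).mulVec c
  have h2 := (genWord [Gen.e, Gen.b, Gen.d, Gen.i, Gen.a]).mulVec c
  rw [mW, Matrix.add_mulVec, Matrix.add_mulVec, Matrix.one_mulVec, h1, h2, add_assoc, Wc, vec_xor, vec_xor]
  rfl

/-- The rank one correction. -/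
noncomputable def mD : Matrix chevE6.Idx chevE6.Idx F4 :=
  Matrix.of fun i j => if j = eE.symm 74 then cd v0 (eE i).val else 0

theorem mD_basis (k : Fin 78) : mD *ᵥ vec eE (4 ^ k.val) = if k.val = 74 then vec eE v0 else 0 := by
  rw [vec_pow4, Matrix.mulVec_single_one]
  funext i
  show (if eE.symm k = eE.symm 74 then cd v0 (eE i).val else 0) = _
  by_cases h : k.val = 74
  · have h2 : k = 74 := Fin.ext h
    subst h2
    simp
    rfl
  · have h2 : eE.symm k ≠ eE.symm 74 := by
      intro h3
      have := eE.symm.injective h3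
      exact h (by rw [this]; rfl)
    rw [if_neg h2, if_neg h]
    rfl

theorem mR_mW : mT tRi * mW = 1 + mD := by
  apply ext_basis (e := eE)
  intro k
  rw [← Matrix.mulVec_mulVec, mW_vec, mulVec_vec (hasT_mT tRi) g_tRi, c_R, Matrix.add_mulVec, Matrix.one_mulVec, mD_basis]
  by_cases h : k.val = 74
  · rw [if_pos h, if_pos h, vec_xor]
  · rw [if_neg h, if_neg h, add_zero]

section Field

variable {K : Type u} [Field K] (f : F4 →+* K)

/-- The vector of a code over the field. -/
def vK (c : ℕ) : chevE6.Idx → K := fun i => f (vec eE c i)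

theorem vK_xor (a b : ℕ) : vK f (Nat.xor a b) = vK f a + vK f b := by
  funext i
  show f (vec eE (Nat.xor a b) i) = f (vec eE a i) + f (vec eE b i)
  rw [vec_xor, Pi.add_apply, map_add]

theorem vK_zero : vK f 0 = 0 := by
  funext i
  simp [vK, vec_zero]

theorem map_vK {M : Matrix chevE6.Idx chevE6.Idx F4} {T : Tab} (h : HasT eE M T) (g : Good T) (c : ℕ) :
    (M.map f) *ᵥ vK f c = vK f (ap T c) := by
  funext i
  have h1 := RingHom.map_mulVec f M (vec eE c) i
  rw [mulVec_vec h g] at h1
  exact h1.symm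

theorem map_vK' {M : Matrix chevE6.Idx chevE6.Idx F4} {c d : ℕ} (h : M *ᵥ vec eE c = vec eE d) :
    (M.map f) *ᵥ vK f c = vK f d := by
  funext i
  have h1 := RingHom.map_mulVec f M (vec eE c) i
  rw [h] at h1
  exact h1.symm

theorem vK_pow4 (k : chevE6.Idx) : vK f (4 ^ (eE k).val) = Pi.single k 1 := by
  funext i
  show f (vec eE (4 ^ (eE k).val) i) = _
  rw [vec_pow4, eE.symm_apply_apply]
  by_cases h : i = k
  · subst h
    simp
  · simp [h]

variable (C : Matrix chevE6.Idx chevE6.Idx K)

/-- The commutant is closed under the ring operations. -/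
theorem comm_list (hC : ∀ x : Gen, Commute C ((genM x).map f)) (l : List Gen) :
    Commute C (((l.map genM).prod).map f) := by
  induction l with
  | nil =>
    have : ((List.map genM ([] : List Gen)).prod).map f = 1 := by simp
    rw [this]
    exact Commute.one_right _
  | cons a l ih =>
    have : ((List.map genM (a :: l)).prod).map f = (genM a).map f * ((l.map genM).prod).map f := by
      rw [List.map_cons, List.prod_cons, Matrix.map_mul]
    rw [this]
    exact (hC a).mul_right ih

theorem comm_W (hC : ∀ x : Gen, Commute C ((genM x).map f)) : Commute C (mW.map f) := by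
  have e : mW.map f = 1 + ((List.map genM [Gen.h]).prod).map f + ((List.map genM [Gen.e, Gen.b, Gen.d, Gen.i, Gen.a]).prod).map f := by
    rw [mW, Matrix.map_add _ (map_add f), Matrix.map_add _ (map_add f), Matrix.map_one _ (map_zero f) (map_one f)]
  rw [e]
  exact ((Commute.one_right _).add_right (comm_list f C hC _)).add_right (comm_list f C hC _)

theorem mD_map (y : chevE6.Idx → K) : (mD.map f) *ᵥ y = y (eE.symm 74) • vK f v0 := by
  funext i
  simp only [Matrix.mulVec, dotProduct, Matrix.map_apply]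
  rw [Finset.sum_eq_single (eE.symm 74)]
  · simp only [mD, Matrix.of_apply, if_true, Pi.smul_apply, smul_eq_mul]
    rw [mul_comm]
    rfl
  · intro j _ hj
    simp [mD, hj]
  · simp

/-- The eigenvector. -/
theorem v0_eig (hC : ∀ x : Gen, Commute C ((genM x).map f)) : ∃ μ : K, C *ᵥ vK f v0 = μ • vK f v0 := by
  set y := C *ᵥ vK f v0 with hy
  have h1 : (mW.map f) *ᵥ y = 0 := by
    have h2 : (mW.map f) *ᵥ vK f v0 = 0 := by
      rw [map_vK' f (mW_vec v0), c_kernel, vK_zero]
    rw [hy, Matrix.mulVec_mulVec, ← (comm_W f C hC).eq, ← Matrix.mulVec_mulVec, h2, Matrix.mulVec_zero]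
  have h3 : ((mT tRi * mW).map f) *ᵥ y = 0 := by
    rw [Matrix.map_mul, ← Matrix.mulVec_mulVec, h1, Matrix.mulVec_zero]
  rw [mR_mW, Matrix.map_add _ (map_add f), Matrix.map_one _ (map_zero f) (map_one f), Matrix.add_mulVec, Matrix.one_mulVec, mD_map] at h3
  refine ⟨-(y (eE.symm 74)), ?_⟩
  rw [neg_smul]
  exact eq_neg_of_add_eq_zero_left h3

/-- The commutant consists of scalars. -/
theorem scalar_of_comm (hC : ∀ x : Gen, Commute C ((genM x).map f)) : ∃ μ : K, C = μ • (1 : Matrix chevE6.Idx chevE6.Idx K) := by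
  obtain ⟨μ, hμ⟩ := v0_eig f C hC
  refine ⟨μ, ?_⟩
  let Z : ℕ → Prop := fun c => C *ᵥ vK f c = μ • vK f c
  have Z0 : Z 0 := by
    show C *ᵥ vK f 0 = μ • vK f 0
    rw [vK_zero, Matrix.mulVec_zero, smul_zero]
  have Zx : ∀ a b, Z a → Z b → Z (Nat.xor a b) := by
    intro a b ha hb
    show C *ᵥ vK f (Nat.xor a b) = μ • vK f (Nat.xor a b)
    rw [vK_xor, Matrix.mulVec_add, smul_add, ha, hb]
  have Zg : ∀ (x : Gen) (c : ℕ), Z c → Z (ap (genT x) c) := by
    intro x c hc
    show C *ᵥ vK f (ap (genT x) c) = μ • vK f (ap (genT x) c)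
    rw [← map_vK f (gen_has x) (gen_good x), Matrix.mulVec_mulVec, (hC x).eq, ← Matrix.mulVec_mulVec, hc,
      Matrix.mulVec_smul]
  have Zs : ∀ t : ℕ, t < 78 → Z (colT tBas t) := by
    intro t
    induction t using Nat.strong_induction_on with
    | _ t ih =>
      intro ht
      rcases c_spin ⟨t, ht⟩ with h0 | ⟨h1, h2⟩
      · have h0' : t = 0 := h0
        subst h0'
        rw [c_B0]
        exact hμ
      · have h2' : colT tBas t = ap (genN (sg.getD t 0)) (colT tBas (sp.getD t 0)) := h2
        rw [h2', genN_eq]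
        exact Zg _ _ (ih _ h1 (by have : sp.getD t 0 < t := h1; omega))
  have Zm : ∀ (s : F4) (p q : ℕ), (∀ k : Fin 78, cd q k.val = s * cd p k.val) → Z p → Z q := by
    intro s p q h hp
    have e : vK f q = f s • vK f p := by
      funext i
      show f (cd q (eE i).val) = f s * f (cd p (eE i).val)
      rw [h (eE i), map_mul]
    show C *ᵥ vK f q = μ • vK f q
    rw [e, Matrix.mulVec_smul, hp, smul_comm]
  have ZT : ∀ t ∈ tBas, Z t.1 ∧ Z t.2.1 ∧ Z t.2.2 := by
    intro t ht
    obtain ⟨n, hn, rfl⟩ := List.mem_iff_getElem.1 ht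
    have hlen : tBas.length = 78 := g_tBas.1
    have hZ : Z tBas[n].1 := by
      have h1 := Zs n (by omega)
      have e : colT tBas n = tBas[n].1 := by
        simp [colT, List.getD_eq_getElem?_getD, hn]
      rwa [e] at h1
    have hW := g_tBas.2 _ ht
    exact ⟨hZ, Zm F4.w _ _ (fun k => (hW k).1) hZ, Zm F4.v _ _ (fun k => (hW k).2) hZ⟩
  have Zb : ∀ j : Fin 78, Z (4 ^ j.val) := by
    intro j
    rw [← c_S j]
    exact ap_mem Z0 Zx ZT _
  ext i j
  have h := congrFun (Zb (eE j)) i
  show (C i j) = _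
  have e := vK_pow4 f j
  rw [e, Matrix.mulVec_single_one] at h
  simpa [Matrix.one_apply, Pi.single_apply, eq_comm] using h

end Field

end Cfsg.Agent.Lib.Tw2E6Fi22
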