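import Cfsg.Agent.Lib.Tw2E6Fi22.Irr
import Cfsg.Agent.Lib.Tw2E6Fi22.Cert2

/-!
# The commutant of the subgroup generated by all generators but the first consists of scalars
-/

set_option autoImplicit false
set_option maxRecDepth 100000
set_option linter.unusedSectionVars false
set_option linter.unusedVariables false
set_option linter.unusedSimpArgs false

universe u

namespace Cfsg.Agent.Lib.Tw2E6Fi22

open Cfsg.Lie Cfsg.Agent.Lib.ChevBN.Elem Cfsg.Agent.Lib.Compute.GF4 Cfsg.Agent.Lib.ChevBN.Fix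
open Cfsg.Spor
open Cfsg.Spor.Fi22 (Gen edges extra)
open Matrix

theorem ofN_ne : ∀ g : ℕ, g ≠ 0 → ofN g ≠ Gen.a
  | 0, h => absurd rfl h
  | 1, _ => by decide
  | 2, _ => by decide
  | 3, _ => by decide
  | 4, _ => by decide
  | 5, _ => by decide
  | 6, _ => by decide
  | 7, _ => by decide
  | _ + 8, _ => by
    show Gen.i ≠ Gen.a
    decide

/-- The element of the group algebra, as a matrix. -/
noncomputable def mW2 : Matrix chevE6.Idx chevE6.Idx F4 :=
  1 + (List.map genM [Gen.e, Gen.f, Gen.d, Gen.i, Gen.g]).prod + (List.map genM [Gen.h]).prod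

theorem mW2_vec (c : ℕ) : mW2 *ᵥ vec eE c = vec eE (Wc2 c) := by
  have h1 := (genWord [Gen.e, Gen.f, Gen.d, Gen.i, Gen.g]).mulVec c
  have h2 := (genWord [Gen.h]).mulVec c
  rw [mW2, Matrix.add_mulVec, Matrix.add_mulVec, Matrix.one_mulVec, h1, h2, add_assoc, Wc2, vec_xor, vec_xor]
  rfl

/-- The rank one correction. -/
noncomputable def mD2 : Matrix chevE6.Idx chevE6.Idx F4 :=
  Matrix.of fun i j => if j = eE.symm 77 then cd v02 (eE i).val else 0

theorem mD2_basis (k : Fin 78) : mD2 *ᵥ vec eE (4 ^ k.val) = if k.val = 77 then vec eE v02 else 0 := by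
  rw [vec_pow4, Matrix.mulVec_single_one]
  funext i
  show (if eE.symm k = eE.symm 77 then cd v02 (eE i).val else 0) = _
  by_cases h : k.val = 77
  · have h2 : k = 77 := Fin.ext h
    subst h2
    simp
    rfl
  · have h2 : eE.symm k ≠ eE.symm 77 := by
      intro h3
      have := eE.symm.injective h3
      exact h (by rw [this]; rfl)
    rw [if_neg h2, if_neg h]
    rfl

theorem mR2_mW2 : mT tRi2 * mW2 = 1 + mD2 := by
  apply ext_basis (e := eE)
  intro k
  rw [← Matrix.mulVec_mulVec, mW2_vec, mulVec_vec (hasT_mT tRi2) g_tRi2, c_R2, Matrix.add_mulVec, Matrix.one_mulVec, mD2_basis]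
  by_cases h : k.val = 77
  · rw [if_pos h, if_pos h, vec_xor]
  · rw [if_neg h, if_neg h, add_zero]

section Field

variable {K : Type u} [Field K] (f : F4 →+* K)

variable (C : Matrix chevE6.Idx chevE6.Idx K)

/-- The commutant is closed under the ring operations. -/
theorem comm_list2 (hC : ∀ x : Gen, x ≠ Gen.a → Commute C ((genM x).map f)) (l : List Gen) (hl : ∀ x ∈ l, x ≠ Gen.a) :
    Commute C (((l.map genM).prod).map f) := by
  induction l with
  | nil =>
    have : ((List.map genM ([] : List Gen)).prod).map f = 1 := by simp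
    rw [this]
    exact Commute.one_right _
  | cons a l ih =>
    have ih := ih (fun x hx => hl x (List.mem_cons_of_mem _ hx))
    have : ((List.map genM (a :: l)).prod).map f = (genM a).map f * ((l.map genM).prod).map f := by
      rw [List.map_cons, List.prod_cons, Matrix.map_mul]
    rw [this]
    exact (hC a (hl a List.mem_cons_self)).mul_right ih

theorem comm_W2 (hC : ∀ x : Gen, x ≠ Gen.a → Commute C ((genM x).map f)) : Commute C (mW2.map f) := by
  have e : mW2.map f = 1 + ((List.map genM [Gen.e, Gen.f, Gen.d, Gen.i, Gen.g]).prod).map f + ((List.map genM [Gen.h]).prod).map f := by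
    rw [mW2, Matrix.map_add _ (map_add f), Matrix.map_add _ (map_add f), Matrix.map_one _ (map_zero f) (map_one f)]
  rw [e]
  exact ((Commute.one_right _).add_right (comm_list2 f C hC _ (by decide))).add_right (comm_list2 f C hC _ (by decide))

theorem mD2_map (y : chevE6.Idx → K) : (mD2.map f) *ᵥ y = y (eE.symm 77) • vK f v02 := by
  funext i
  simp only [Matrix.mulVec, dotProduct, Matrix.map_apply]
  rw [Finset.sum_eq_single (eE.symm 77)]
  · simp only [mD2, Matrix.of_apply, if_true, Pi.smul_apply, smul_eq_mul]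
    rw [mul_comm]
    rfl
  · intro j _ hj
    simp [mD2, hj]
  · simp

/-- The eigenvector. -/
theorem v02_eig (hC : ∀ x : Gen, x ≠ Gen.a → Commute C ((genM x).map f)) : ∃ μ : K, C *ᵥ vK f v02 = μ • vK f v02 := by
  set y := C *ᵥ vK f v02 with hy
  have h1 : (mW2.map f) *ᵥ y = 0 := by
    have h2 : (mW2.map f) *ᵥ vK f v02 = 0 := by
      rw [map_vK' f (mW2_vec v02), c_kernel2, vK_zero]
    rw [hy, Matrix.mulVec_mulVec, ← (comm_W2 f C hC).eq, ← Matrix.mulVec_mulVec, h2, Matrix.mulVec_zero]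
  have h3 : ((mT tRi2 * mW2).map f) *ᵥ y = 0 := by
    rw [Matrix.map_mul, ← Matrix.mulVec_mulVec, h1, Matrix.mulVec_zero]
  rw [mR2_mW2, Matrix.map_add _ (map_add f), Matrix.map_one _ (map_zero f) (map_one f), Matrix.add_mulVec, Matrix.one_mulVec, mD2_map] at h3
  refine ⟨-(y (eE.symm 77)), ?_⟩
  rw [neg_smul]
  exact eq_neg_of_add_eq_zero_left h3

/-- The commutant consists of scalars. -/
theorem scalar_of_comm2 (hC : ∀ x : Gen, x ≠ Gen.a → Commute C ((genM x).map f)) : ∃ μ : K, C = μ • (1 : Matrix chevE6.Idx chevE6.Idx K) := by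
  obtain ⟨μ, hμ⟩ := v02_eig f C hC
  refine ⟨μ, ?_⟩
  let Z : ℕ → Prop := fun c => C *ᵥ vK f c = μ • vK f c
  have Z0 : Z 0 := by
    show C *ᵥ vK f 0 = μ • vK f 0
    rw [vK_zero, Matrix.mulVec_zero, smul_zero]
  have Zx : ∀ a b, Z a → Z b → Z (Nat.xor a b) := by
    intro a b ha hb
    show C *ᵥ vK f (Nat.xor a b) = μ • vK f (Nat.xor a b)
    rw [vK_xor, Matrix.mulVec_add, smul_add, ha, hb]
  have Zg : ∀ (x : Gen) (c : ℕ), x ≠ Gen.a → Z c → Z (ap (genT x) c) := by
    intro x c hxa hc
    show C *ᵥ vK f (ap (genT x) c) = μ • vK f (ap (genT x) c)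
    rw [← map_vK f (gen_has x) (gen_good x), Matrix.mulVec_mulVec, (hC x hxa).eq, ← Matrix.mulVec_mulVec, hc,
      Matrix.mulVec_smul]
  have Zs : ∀ t : ℕ, t < 78 → Z (colT tBas2 t) := by
    intro t
    induction t using Nat.strong_induction_on with
    | _ t ih =>
      intro ht
      rcases c_spin2 ⟨t, ht⟩ with h0 | ⟨h1, h1b, h2⟩
      · have h0' : t = 0 := h0
        subst h0'
        rw [c_B02]
        exact hμ
      · have h2' : colT tBas2 t = ap (genN (sg2.getD t 0)) (colT tBas2 (sp2.getD t 0)) := h2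
        rw [h2', genN_eq]
        exact Zg _ _ (ofN_ne _ h1b) (ih _ h1 (by have : sp2.getD t 0 < t := h1; omega))
  have Zm : ∀ (s : F4) (p q : ℕ), (∀ k : Fin 78, cd q k.val = s * cd p k.val) → Z p → Z q := by
    intro s p q h hp
    have e : vK f q = f s • vK f p := by
      funext i
      show f (cd q (eE i).val) = f s * f (cd p (eE i).val)
      rw [h (eE i), map_mul]
    show C *ᵥ vK f q = μ • vK f q
    rw [e, Matrix.mulVec_smul, hp, smul_comm]
  have ZT : ∀ t ∈ tBas2, Z t.1 ∧ Z t.2.1 ∧ Z t.2.2 := by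
    intro t ht
    obtain ⟨n, hn, rfl⟩ := List.mem_iff_getElem.1 ht
    have hlen : tBas2.length = 78 := g_tBas2.1
    have hZ : Z tBas2[n].1 := by
      have h1 := Zs n (by omega)
      have e : colT tBas2 n = tBas2[n].1 := by
        simp [colT, List.getD_eq_getElem?_getD, hn]
      rwa [e] at h1
    have hW := g_tBas2.2 _ ht
    exact ⟨hZ, Zm F4.w _ _ (fun k => (hW k).1) hZ, Zm F4.v _ _ (fun k => (hW k).2) hZ⟩
  have Zb : ∀ j : Fin 78, Z (4 ^ j.val) := by
    intro j
    rw [← c_S2 j]
    exact ap_mem Z0 Zx ZT _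
  ext i j
  have h := congrFun (Zb (eE j)) i
  show (C i j) = _
  have e := vK_pow4 f j
  rw [e, Matrix.mulVec_single_one] at h
  simpa [Matrix.one_apply, Pi.single_apply, eq_comm] using h

end Field

end Cfsg.Agent.Lib.Tw2E6Fi22
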