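import Cfsg.Agent.Lib.Tw2E6Fi22.Base

/-! # The tables of root elements -/

set_option autoImplicit false
set_option maxRecDepth 100000
set_option linter.unusedSectionVars false
set_option linter.unusedVariables false

namespace Cfsg.Agent.Lib.Tw2E6Fi22

open Cfsg.Lie Cfsg.Agent.Lib.Compute.GF4

set_option maxHeartbeats 0

theorem x_46_0 : chevE6.x F4 46 1 = mT tx46_0 := by decide +kernel

theorem x_32_0 : chevE6.x F4 32 1 = mT tx32_0 := by decide +kernel

theorem x_15_0 : chevE6.x F4 15 1 = mT tx15_0 := by decide +kernel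

theorem x_37_0 : chevE6.x F4 37 1 = mT tx37_0 := by decide +kernel

theorem x_56_1 : chevE6.x F4 56 F4.w = mT tx56_1 := by decide +kernel


end Cfsg.Agent.Lib.Tw2E6Fi22
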