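import Cfsg.Agent.Lib.Tw2E6Fi22.Base

/-! # The tables of root elements -/

set_option autoImplicit false
set_option maxRecDepth 100000
set_option linter.unusedSectionVars false
set_option linter.unusedVariables false

namespace Cfsg.Agent.Lib.Tw2E6Fi22

open Cfsg.Lie Cfsg.Agent.Lib.Compute.GF4

set_option maxHeartbeats 0

theorem x_25_0 : chevE6.x F4 25 1 = mT tx25_0 := by decide +kernel

theorem x_56_0 : chevE6.x F4 56 1 = mT tx56_0 := by decide +kernel

theorem x_35_0 : chevE6.x F4 35 1 = mT tx35_0 := by decide +kernel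

theorem x_29_0 : chevE6.x F4 29 1 = mT tx29_0 := by decide +kernel

theorem x_36_2 : chevE6.x F4 36 F4.v = mT tx36_2 := by decide +kernel


end Cfsg.Agent.Lib.Tw2E6Fi22
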