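import Cfsg.Agent.Lib.Twisted.E6
import Cfsg.Agent.Lib.ChevBN.Fix
import Cfsg.Prelude.Def_Spor_Fi22
import Cfsg.Agent.Lib.Tw2E6Fi22.Good0
import Cfsg.Agent.Lib.Tw2E6Fi22.Good1
import Cfsg.Agent.Lib.Tw2E6Fi22.Good2
import Cfsg.Agent.Lib.Tw2E6Fi22.XT0
import Cfsg.Agent.Lib.Tw2E6Fi22.XT1
import Cfsg.Agent.Lib.Tw2E6Fi22.XT2
import Cfsg.Agent.Lib.Tw2E6Fi22.Chk0
import Cfsg.Agent.Lib.Tw2E6Fi22.Chk1
import Cfsg.Agent.Lib.Tw2E6Fi22.Chk2
import Cfsg.Agent.Lib.Tw2E6Fi22.Chk3
import Cfsg.Agent.Lib.Tw2E6Fi22.ChkC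

/-!
# The representation of `Fi₂₂` of degree 78 over the field with four elements, by root involutions of `²E₆(2)`
-/

set_option autoImplicit false
set_option maxRecDepth 100000
set_option linter.unusedSectionVars false
set_option linter.unusedVariables false
set_option linter.unusedSimpArgs false

universe u

namespace Cfsg.Agent.Lib.Tw2E6Fi22

open Cfsg.Lie Cfsg.Agent.Lib.ChevBN.Elem Cfsg.Agent.Lib.Compute.GF4 Cfsg.Agent.Lib.ChevBN.Fix
open Cfsg.Agent.Lib.Twisted Cfsg.Agent.Lib.Twisted.E6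
open Cfsg.Agent.Lib.Chevalley.Tbl.E6 (sys)
open Cfsg.Spor
open Cfsg.Spor.Fi22 (Gen edges extra)
open Matrix

set_option quotPrecheck false in
/-- The root elements. -/
local notation "Xr" => X (sys (F := _)).toAddRel

/-- The linear group over the field with four elements. -/
abbrev GG := GL chevE6.Idx F4

/-- The letters. -/
noncomputable def letG : ℕ → GG
  | 0 => Xr 46 1
  | 1 => Xr 25 1
  | 2 => Xr 39 1
  | 3 => Xr 32 1
  | 4 => Xr 56 1 * Xr 36 1
  | 5 => Xr 15 1 * Xr 35 1
  | 6 => Xr 42 1 * Xr 37 1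
  | 7 => Xr 29 1 * Xr 34 1
  | _ => Xr 56 F4.w * Xr 36 F4.v

theorem has_x {r : ℕ} {t : F4} {T : Tab} (h : chevE6.x F4 r t = mT T) : HasT eE ((Xr r t : GG) : Matrix chevE6.Idx chevE6.Idx F4) T := by
  rw [coe_X, h]
  exact hasT_mT T

theorem has_pair {r s : ℕ} {t u : F4} {T₁ T₂ T : Tab} (h₁ : chevE6.x F4 r t = mT T₁) (h₂ : chevE6.x F4 s u = mT T₂)
    (g₁ : Good T₁) (g₂ : Good T₂) (c : ∀ k : Fin 78, apw [T₁, T₂] (4 ^ k.val) = colT T k.val) :
    HasT eE (((Xr r t * Xr s u : GG)) : Matrix chevE6.Idx chevE6.Idx F4) T := by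
  have w : WordT eE [chevE6.x F4 r t, chevE6.x F4 s u] [T₁, T₂] :=
    .cons (h₁ ▸ hasT_mT T₁) g₁ (.cons (h₂ ▸ hasT_mT T₂) g₂ .nil)
  have h := hasT_of_word w c
  simpa [Units.val_mul, coe_X] using h

theorem letHas : ∀ a : ℕ, HasT eE ((letG a : GG) : Matrix chevE6.Idx chevE6.Idx F4) (letT a)
  | 0 => has_x x_46_0
  | 1 => has_x x_25_0
  | 2 => has_x x_39_0
  | 3 => has_x x_32_0
  | 4 => has_pair x_56_0 x_36_0 g_tx56_0 g_tx36_0 c_l4
  | 5 => has_pair x_15_0 x_35_0 g_tx15_0 g_tx35_0 c_l5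
  | 6 => has_pair x_42_0 x_37_0 g_tx42_0 g_tx37_0 c_l6
  | 7 => has_pair x_29_0 x_34_0 g_tx29_0 g_tx34_0 c_l7
  | _ + 8 => has_pair x_56_1 x_36_2 g_tx56_1 g_tx36_2 c_l8

theorem letGood : ∀ a : ℕ, Good (letT a)
  | 0 => g_tx46_0
  | 1 => g_tx25_0
  | 2 => g_tx39_0
  | 3 => g_tx32_0
  | 4 => g_tl4
  | 5 => g_tl5
  | 6 => g_tl6
  | 7 => g_tl7
  | _ + 8 => g_tl8

/-- The product of a word in the letters. -/
noncomputable def lp : List ℕ → GG
  | [] => 1
  | a :: l => letG a * lp l

theorem lp_word (l : List ℕ) : ∃ m : List (Matrix chevE6.Idx chevE6.Idx F4),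
    ((lp l : GG) : Matrix chevE6.Idx chevE6.Idx F4) = m.prod ∧ WordT eE m (l.map letT) := by
  induction l with
  | nil => exact ⟨[], by simp [lp], .nil⟩
  | cons a l ih =>
    obtain ⟨m, h1, h2⟩ := ih
    exact ⟨((letG a : GG) : Matrix chevE6.Idx chevE6.Idx F4) :: m, by simp [lp, h1], .cons (letHas a) (letGood a) h2⟩

theorem lp_has {l : List ℕ} {T : Tab} (c : ∀ k : Fin 78, apw (l.map letT) (4 ^ k.val) = colT T k.val) :
    HasT eE ((lp l : GG) : Matrix chevE6.Idx chevE6.Idx F4) T := by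
  obtain ⟨m, h1, h2⟩ := lp_word l
  rw [h1]
  exact hasT_of_word h2 c

/-- The images of the generators. -/
noncomputable def genG : Gen → GG
  | .a => lp wA
  | .b => lp wB
  | .c => lp wC
  | .d => lp wD
  | .e => lp wE
  | .f => lp wF
  | .g => lp wG
  | .h => lp wH
  | .i => lp wI

/-- The tables of the generators. -/
def genT : Gen → Tab
  | .a => tA
  | .b => tB
  | .c => tC
  | .d => tD
  | .e => tE
  | .f => tF
  | .g => tG
  | .h => tH
  | .i => tI

theorem gen_has : ∀ x : Gen, HasT eE ((genG x : GG) : Matrix chevE6.Idx chevE6.Idx F4) (genT x)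
  | .a => lp_has c_wA
  | .b => lp_has c_wB
  | .c => lp_has c_wC
  | .d => lp_has c_wD
  | .e => lp_has c_wE
  | .f => lp_has c_wF
  | .g => lp_has c_wG
  | .h => lp_has c_wH
  | .i => lp_has c_wI

theorem gen_good : ∀ x : Gen, Good (genT x)
  | .a => g_tA
  | .b => g_tB
  | .c => g_tC
  | .d => g_tD
  | .e => g_tE
  | .f => g_tF
  | .g => g_tG
  | .h => g_tH
  | .i => g_tI

/-- The matrices of the generators. -/
noncomputable abbrev genM (x : Gen) : Matrix chevE6.Idx chevE6.Idx F4 := ((genG x : GG) : Matrix chevE6.Idx chevE6.Idx F4)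

theorem genWord (l : List Gen) : WordT eE (l.map genM) (l.map genT) := by
  induction l with
  | nil => exact .nil
  | cons a l ih => exact .cons (gen_has a) (gen_good a) ih

theorem rel2 (x y : Gen) (n : ℕ) (hc : ∀ k : Fin 78, pw [genT x, genT y] n (4 ^ k.val) = 4 ^ k.val) :
    (genG x * genG y) ^ n = 1 := by
  apply Units.ext
  have h := pow_eq_one_of_chk (genWord [x, y]) n hc
  simpa [Units.val_mul, Units.val_pow_eq_pow_val] using h

theorem swap_pow {G : Type*} [Group G] {x y : G} {n : ℕ} (h : (x * y) ^ n = 1) : (y * x) ^ n = 1 := by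
  have e : y * x = x⁻¹ * (x * y) * x⁻¹⁻¹ := by group
  rw [e, conj_pow, h]
  group

theorem cox_all : ∀ x y : Gen, (genG x * genG y) ^ coxLabel edges x y = 1
  | .a, .a => by
    rw [show coxLabel edges Gen.a Gen.a = 1 from by decide]
    exact rel2 .a .a 1 r_AA
  | .a, .b => by
    rw [show coxLabel edges Gen.a Gen.b = 3 from by decide]
    exact rel2 .a .b 3 r_AB
  | .a, .c => by
    rw [show coxLabel edges Gen.a Gen.c = 2 from by decide]
    exact rel2 .a .c 2 r_AC
  | .a, .d => by
    rw [show coxLabel edges Gen.a Gen.d = 2 from by decide]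
    exact rel2 .a .d 2 r_AD
  | .a, .e => by
    rw [show coxLabel edges Gen.a Gen.e = 2 from by decide]
    exact rel2 .a .e 2 r_AE
  | .a, .f => by
    rw [show coxLabel edges Gen.a Gen.f = 2 from by decide]
    exact rel2 .a .f 2 r_AF
  | .a, .g => by
    rw [show coxLabel edges Gen.a Gen.g = 2 from by decide]
    exact rel2 .a .g 2 r_AG
  | .a, .h => by
    rw [show coxLabel edges Gen.a Gen.h = 2 from by decide]
    exact rel2 .a .h 2 r_AH
  | .a, .i => by
    rw [show coxLabel edges Gen.a Gen.i = 2 from by decide]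
    exact rel2 .a .i 2 r_AI
  | .b, .a => by
    rw [show coxLabel edges Gen.b Gen.a = 3 from by decide]
    exact swap_pow (rel2 .a .b 3 r_AB)
  | .b, .b => by
    rw [show coxLabel edges Gen.b Gen.b = 1 from by decide]
    exact rel2 .b .b 1 r_BB
  | .b, .c => by
    rw [show coxLabel edges Gen.b Gen.c = 3 from by decide]
    exact rel2 .b .c 3 r_BC
  | .b, .d => by
    rw [show coxLabel edges Gen.b Gen.d = 2 from by decide]
    exact rel2 .b .d 2 r_BD
  | .b, .e => by
    rw [show coxLabel edges Gen.b Gen.e = 2 from by decide]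
    exact rel2 .b .e 2 r_BE
  | .b, .f => by
    rw [show coxLabel edges Gen.b Gen.f = 2 from by decide]
    exact rel2 .b .f 2 r_BF
  | .b, .g => by
    rw [show coxLabel edges Gen.b Gen.g = 2 from by decide]
    exact rel2 .b .g 2 r_BG
  | .b, .h => by
    rw [show coxLabel edges Gen.b Gen.h = 2 from by decide]
    exact rel2 .b .h 2 r_BH
  | .b, .i => by
    rw [show coxLabel edges Gen.b Gen.i = 2 from by decide]
    exact rel2 .b .i 2 r_BI
  | .c, .a => by
    rw [show coxLabel edges Gen.c Gen.a = 2 from by decide]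
    exact swap_pow (rel2 .a .c 2 r_AC)
  | .c, .b => by
    rw [show coxLabel edges Gen.c Gen.b = 3 from by decide]
    exact swap_pow (rel2 .b .c 3 r_BC)
  | .c, .c => by
    rw [show coxLabel edges Gen.c Gen.c = 1 from by decide]
    exact rel2 .c .c 1 r_CC
  | .c, .d => by
    rw [show coxLabel edges Gen.c Gen.d = 3 from by decide]
    exact rel2 .c .d 3 r_CD
  | .c, .e => by
    rw [show coxLabel edges Gen.c Gen.e = 2 from by decide]
    exact rel2 .c .e 2 r_CE
  | .c, .f => by
    rw [show coxLabel edges Gen.c Gen.f = 2 from by decide]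
    exact rel2 .c .f 2 r_CF
  | .c, .g => by
    rw [show coxLabel edges Gen.c Gen.g = 2 from by decide]
    exact rel2 .c .g 2 r_CG
  | .c, .h => by
    rw [show coxLabel edges Gen.c Gen.h = 2 from by decide]
    exact rel2 .c .h 2 r_CH
  | .c, .i => by
    rw [show coxLabel edges Gen.c Gen.i = 2 from by decide]
    exact rel2 .c .i 2 r_CI
  | .d, .a => by
    rw [show coxLabel edges Gen.d Gen.a = 2 from by decide]
    exact swap_pow (rel2 .a .d 2 r_AD)
  | .d, .b => by
    rw [show coxLabel edges Gen.d Gen.b = 2 from by decide]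
    exact swap_pow (rel2 .b .d 2 r_BD)
  | .d, .c => by
    rw [show coxLabel edges Gen.d Gen.c = 3 from by decide]
    exact swap_pow (rel2 .c .d 3 r_CD)
  | .d, .d => by
    rw [show coxLabel edges Gen.d Gen.d = 1 from by decide]
    exact rel2 .d .d 1 r_DD
  | .d, .e => by
    rw [show coxLabel edges Gen.d Gen.e = 3 from by decide]
    exact rel2 .d .e 3 r_DE
  | .d, .f => by
    rw [show coxLabel edges Gen.d Gen.f = 2 from by decide]
    exact rel2 .d .f 2 r_DF
  | .d, .g => by
    rw [show coxLabel edges Gen.d Gen.g = 2 from by decide]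
    exact rel2 .d .g 2 r_DG
  | .d, .h => by
    rw [show coxLabel edges Gen.d Gen.h = 3 from by decide]
    exact rel2 .d .h 3 r_DH
  | .d, .i => by
    rw [show coxLabel edges Gen.d Gen.i = 2 from by decide]
    exact rel2 .d .i 2 r_DI
  | .e, .a => by
    rw [show coxLabel edges Gen.e Gen.a = 2 from by decide]
    exact swap_pow (rel2 .a .e 2 r_AE)
  | .e, .b => by
    rw [show coxLabel edges Gen.e Gen.b = 2 from by decide]
    exact swap_pow (rel2 .b .e 2 r_BE)
  | .e, .c => by
    rw [show coxLabel edges Gen.e Gen.c = 2 from by decide]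
    exact swap_pow (rel2 .c .e 2 r_CE)
  | .e, .d => by
    rw [show coxLabel edges Gen.e Gen.d = 3 from by decide]
    exact swap_pow (rel2 .d .e 3 r_DE)
  | .e, .e => by
    rw [show coxLabel edges Gen.e Gen.e = 1 from by decide]
    exact rel2 .e .e 1 r_EE
  | .e, .f => by
    rw [show coxLabel edges Gen.e Gen.f = 3 from by decide]
    exact rel2 .e .f 3 r_EF
  | .e, .g => by
    rw [show coxLabel edges Gen.e Gen.g = 2 from by decide]
    exact rel2 .e .g 2 r_EG
  | .e, .h => by
    rw [show coxLabel edges Gen.e Gen.h = 2 from by decide]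
    exact rel2 .e .h 2 r_EH
  | .e, .i => by
    rw [show coxLabel edges Gen.e Gen.i = 2 from by decide]
    exact rel2 .e .i 2 r_EI
  | .f, .a => by
    rw [show coxLabel edges Gen.f Gen.a = 2 from by decide]
    exact swap_pow (rel2 .a .f 2 r_AF)
  | .f, .b => by
    rw [show coxLabel edges Gen.f Gen.b = 2 from by decide]
    exact swap_pow (rel2 .b .f 2 r_BF)
  | .f, .c => by
    rw [show coxLabel edges Gen.f Gen.c = 2 from by decide]
    exact swap_pow (rel2 .c .f 2 r_CF)
  | .f, .d => by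
    rw [show coxLabel edges Gen.f Gen.d = 2 from by decide]
    exact swap_pow (rel2 .d .f 2 r_DF)
  | .f, .e => by
    rw [show coxLabel edges Gen.f Gen.e = 3 from by decide]
    exact swap_pow (rel2 .e .f 3 r_EF)
  | .f, .f => by
    rw [show coxLabel edges Gen.f Gen.f = 1 from by decide]
    exact rel2 .f .f 1 r_FF
  | .f, .g => by
    rw [show coxLabel edges Gen.f Gen.g = 3 from by decide]
    exact rel2 .f .g 3 r_FG
  | .f, .h => by
    rw [show coxLabel edges Gen.f Gen.h = 2 from by decide]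
    exact rel2 .f .h 2 r_FH
  | .f, .i => by
    rw [show coxLabel edges Gen.f Gen.i = 2 from by decide]
    exact rel2 .f .i 2 r_FI
  | .g, .a => by
    rw [show coxLabel edges Gen.g Gen.a = 2 from by decide]
    exact swap_pow (rel2 .a .g 2 r_AG)
  | .g, .b => by
    rw [show coxLabel edges Gen.g Gen.b = 2 from by decide]
    exact swap_pow (rel2 .b .g 2 r_BG)
  | .g, .c => by
    rw [show coxLabel edges Gen.g Gen.c = 2 from by decide]
    exact swap_pow (rel2 .c .g 2 r_CG)
  | .g, .d => by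
    rw [show coxLabel edges Gen.g Gen.d = 2 from by decide]
    exact swap_pow (rel2 .d .g 2 r_DG)
  | .g, .e => by
    rw [show coxLabel edges Gen.g Gen.e = 2 from by decide]
    exact swap_pow (rel2 .e .g 2 r_EG)
  | .g, .f => by
    rw [show coxLabel edges Gen.g Gen.f = 3 from by decide]
    exact swap_pow (rel2 .f .g 3 r_FG)
  | .g, .g => by
    rw [show coxLabel edges Gen.g Gen.g = 1 from by decide]
    exact rel2 .g .g 1 r_GG
  | .g, .h => by
    rw [show coxLabel edges Gen.g Gen.h = 2 from by decide]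
    exact rel2 .g .h 2 r_GH
  | .g, .i => by
    rw [show coxLabel edges Gen.g Gen.i = 2 from by decide]
    exact rel2 .g .i 2 r_GI
  | .h, .a => by
    rw [show coxLabel edges Gen.h Gen.a = 2 from by decide]
    exact swap_pow (rel2 .a .h 2 r_AH)
  | .h, .b => by
    rw [show coxLabel edges Gen.h Gen.b = 2 from by decide]
    exact swap_pow (rel2 .b .h 2 r_BH)
  | .h, .c => by
    rw [show coxLabel edges Gen.h Gen.c = 2 from by decide]
    exact swap_pow (rel2 .c .h 2 r_CH)
  | .h, .d => by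
    rw [show coxLabel edges Gen.h Gen.d = 3 from by decide]
    exact swap_pow (rel2 .d .h 3 r_DH)
  | .h, .e => by
    rw [show coxLabel edges Gen.h Gen.e = 2 from by decide]
    exact swap_pow (rel2 .e .h 2 r_EH)
  | .h, .f => by
    rw [show coxLabel edges Gen.h Gen.f = 2 from by decide]
    exact swap_pow (rel2 .f .h 2 r_FH)
  | .h, .g => by
    rw [show coxLabel edges Gen.h Gen.g = 2 from by decide]
    exact swap_pow (rel2 .g .h 2 r_GH)
  | .h, .h => by
    rw [show coxLabel edges Gen.h Gen.h = 1 from by decide]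
    exact rel2 .h .h 1 r_HH
  | .h, .i => by
    rw [show coxLabel edges Gen.h Gen.i = 3 from by decide]
    exact rel2 .h .i 3 r_HI
  | .i, .a => by
    rw [show coxLabel edges Gen.i Gen.a = 2 from by decide]
    exact swap_pow (rel2 .a .i 2 r_AI)
  | .i, .b => by
    rw [show coxLabel edges Gen.i Gen.b = 2 from by decide]
    exact swap_pow (rel2 .b .i 2 r_BI)
  | .i, .c => by
    rw [show coxLabel edges Gen.i Gen.c = 2 from by decide]
    exact swap_pow (rel2 .c .i 2 r_CI)
  | .i, .d => by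
    rw [show coxLabel edges Gen.i Gen.d = 2 from by decide]
    exact swap_pow (rel2 .d .i 2 r_DI)
  | .i, .e => by
    rw [show coxLabel edges Gen.i Gen.e = 2 from by decide]
    exact swap_pow (rel2 .e .i 2 r_EI)
  | .i, .f => by
    rw [show coxLabel edges Gen.i Gen.f = 2 from by decide]
    exact swap_pow (rel2 .f .i 2 r_FI)
  | .i, .g => by
    rw [show coxLabel edges Gen.i Gen.g = 2 from by decide]
    exact swap_pow (rel2 .g .i 2 r_GI)
  | .i, .h => by
    rw [show coxLabel edges Gen.i Gen.h = 3 from by decide]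
    exact swap_pow (rel2 .h .i 3 r_HI)
  | .i, .i => by
    rw [show coxLabel edges Gen.i Gen.i = 1 from by decide]
    exact rel2 .i .i 1 r_II

theorem ext1 : (genG .d * genG .c * genG .b * genG .d * genG .e * genG .f * genG .d * genG .h * genG .i) ^ 10 = 1 := by
  apply Units.ext
  have h1 := hasT_of_word (genWord [.d, .c, .b, .d, .e, .f, .d, .h, .i]) c_W1
  have h2 := pow_eq_one_of_chk (WordT.cons h1 g_tW1 .nil) 10 r_W1
  simpa [Units.val_mul, Units.val_pow_eq_pow_val, mul_assoc] using h2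

theorem ext2 : (genG .a * genG .b * genG .c * genG .d * genG .e * genG .f * genG .h) ^ 9 = 1 := by
  apply Units.ext
  have h1 := hasT_of_word (genWord [.a, .b, .c, .d, .e, .f, .h]) c_W2
  have h2 := pow_eq_one_of_chk (WordT.cons h1 g_tW2 .nil) 9 r_W2
  simpa [Units.val_mul, Units.val_pow_eq_pow_val, mul_assoc] using h2

theorem ext3 : (genG .b * genG .c * genG .d * genG .e * genG .f * genG .g * genG .h) ^ 9 = 1 := by
  apply Units.ext
  have h1 := hasT_of_word (genWord [.b, .c, .d, .e, .f, .g, .h]) c_W3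
  have h2 := pow_eq_one_of_chk (WordT.cons h1 g_tW3 .nil) 9 r_W3
  simpa [Units.val_mul, Units.val_pow_eq_pow_val, mul_assoc] using h2

theorem rels_ok : ∀ r ∈ coxRelators edges ∪ {r | r ∈ extra}, FreeGroup.lift genG r = 1 := by
  rintro r (⟨x, -, y, -, rfl⟩ | hr)
  · simpa [map_pow, map_mul] using cox_all x y
  · simp only [Set.mem_ofPred_eq, extra, List.mem_cons, List.not_mem_nil, or_false] at hr
    rcases hr with rfl | rfl | rfl
    · simpa [map_pow, map_mul] using ext1
    · simpa [map_pow, map_mul] using ext2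
    · simpa [map_pow, map_mul] using ext3

/-- The representation. -/
noncomputable def rho : Cfsg.Spor.Fi22 →* GG := PresentedGroup.toGroup rels_ok

theorem rho_of (x : Gen) : rho (PresentedGroup.of x) = genG x := PresentedGroup.toGroup.of _

/-- The generators by number. -/
def ofN : ℕ → Gen
  | 0 => .a
  | 1 => .b
  | 2 => .c
  | 3 => .d
  | 4 => .e
  | 5 => .f
  | 6 => .g
  | 7 => .h
  | _ => .i

theorem genN_eq : ∀ g : ℕ, genN g = genT (ofN g)
  | 0 => rfl
  | 1 => rfl
  | 2 => rfl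
  | 3 => rfl
  | 4 => rfl
  | 5 => rfl
  | 6 => rfl
  | 7 => rfl
  | _ + 8 => rfl

theorem rho_ne : genG .a ≠ 1 := by
  intro h
  have h1 := gen_has .a (eE.symm 11) (eE.symm 0)
  rw [h] at h1
  simp only [Units.val_one, Equiv.apply_symm_apply] at h1
  have h2 : (1 : Matrix chevE6.Idx chevE6.Idx F4) (eE.symm 11) (eE.symm 0) = 0 := by
    rw [Matrix.one_apply_ne]
    intro h3
    have := eE.symm.injective h3
    exact absurd this (by decide)
  rw [h2] at h1
  exact absurd h1 (by decide +kernel)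

section Field

variable {K : Type u} [Field K] (f : F4 →+* K) {φ : K →+* K} (hφ : ∀ t, φ t = t ^ 2)

/-- The representation over the field. -/
noncomputable abbrev Phi : Cfsg.Spor.Fi22 →* GL chevE6.Idx K := (mapG chevE6 f).comp rho

include hφ

theorem let_mem : ∀ a : ℕ, mapG chevE6 f (letG a) ∈ twistedE6 K 2
  | 0 => by
    show mapG chevE6 f (Xr 46 1) ∈ _
    rw [mapG_X _ (sys (F := F4)).toAddRel (sys (F := K)).toAddRel]
    exact X_single_mem hφ (by simp [e6p2]) (by simp)
  | 1 => by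
    show mapG chevE6 f (Xr 25 1) ∈ _
    rw [mapG_X _ (sys (F := F4)).toAddRel (sys (F := K)).toAddRel]
    exact X_single_mem hφ (by simp [e6m2]) (by simp)
  | 2 => by
    show mapG chevE6 f (Xr 39 1) ∈ _
    rw [mapG_X _ (sys (F := F4)).toAddRel (sys (F := K)).toAddRel]
    exact X_single_mem hφ (by simp [e6p4]) (by simp)
  | 3 => by
    show mapG chevE6 f (Xr 32 1) ∈ _
    rw [mapG_X _ (sys (F := F4)).toAddRel (sys (F := K)).toAddRel]
    exact X_single_mem hφ (by simp [e6m4]) (by simp)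
  | 4 => by
    show mapG chevE6 f (Xr 56 1 * Xr 36 1) ∈ _
    rw [map_mul, mapG_X _ (sys (F := F4)).toAddRel (sys (F := K)).toAddRel, mapG_X _ (sys (F := F4)).toAddRel (sys (F := K)).toAddRel]
    have := w2_mem hφ (rs := (56, 36)) (by simp [e6p1, e6p6]) (1 : K)
    simpa [w2] using this
  | 5 => by
    show mapG chevE6 f (Xr 15 1 * Xr 35 1) ∈ _
    rw [map_mul, mapG_X _ (sys (F := F4)).toAddRel (sys (F := K)).toAddRel, mapG_X _ (sys (F := F4)).toAddRel (sys (F := K)).toAddRel]
    have := w2_mem hφ (rs := (15, 35)) (by simp [e6m1, e6m6]) (1 : K)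
    simpa [w2] using this
  | 6 => by
    show mapG chevE6 f (Xr 42 1 * Xr 37 1) ∈ _
    rw [map_mul, mapG_X _ (sys (F := F4)).toAddRel (sys (F := K)).toAddRel, mapG_X _ (sys (F := F4)).toAddRel (sys (F := K)).toAddRel]
    have := w2_mem hφ (rs := (42, 37)) (by simp [e6p3, e6p5]) (1 : K)
    simpa [w2] using this
  | 7 => by
    show mapG chevE6 f (Xr 29 1 * Xr 34 1) ∈ _
    rw [map_mul, mapG_X _ (sys (F := F4)).toAddRel (sys (F := K)).toAddRel, mapG_X _ (sys (F := F4)).toAddRel (sys (F := K)).toAddRel]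
    have := w2_mem hφ (rs := (29, 34)) (by simp [e6m3, e6m5]) (1 : K)
    simpa [w2] using this
  | _ + 8 => by
    show mapG chevE6 f (Xr 56 F4.w * Xr 36 F4.v) ∈ _
    rw [map_mul, mapG_X _ (sys (F := F4)).toAddRel (sys (F := K)).toAddRel, mapG_X _ (sys (F := F4)).toAddRel (sys (F := K)).toAddRel]
    have := w2_mem hφ (rs := (56, 36)) (by simp [e6p1, e6p6]) (f F4.w)
    have e : φ (f F4.w) = f F4.v := by
      have h2 : F4.w ^ 2 = F4.v := by
        rw [sq]
        rfl
      rw [hφ, ← map_pow, h2]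
    simpa [w2, e] using this

theorem lp_mem : ∀ l : List ℕ, mapG chevE6 f (lp l) ∈ twistedE6 K 2
  | [] => by simp [lp, Subgroup.one_mem]
  | a :: l => by
    rw [lp, map_mul]
    exact Subgroup.mul_mem _ (let_mem f hφ a) (lp_mem l)

theorem gen_mem : ∀ x : Gen, mapG chevE6 f (genG x) ∈ twistedE6 K 2
  | .a => lp_mem f hφ wA
  | .b => lp_mem f hφ wB
  | .c => lp_mem f hφ wC
  | .d => lp_mem f hφ wD
  | .e => lp_mem f hφ wE
  | .f => lp_mem f hφ wF
  | .g => lp_mem f hφ wG
  | .h => lp_mem f hφ wH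
  | .i => lp_mem f hφ wI

theorem phi_mem (m : Cfsg.Spor.Fi22) : Phi f m ∈ twistedE6 K 2 := by
  have h : (⊤ : Subgroup Cfsg.Spor.Fi22) ≤ (twistedE6 K 2).comap (Phi f) := by
    rw [← PresentedGroup.closure_range_of, Subgroup.closure_le]
    rintro _ ⟨x, rfl⟩
    show mapG chevE6 f (rho (PresentedGroup.of x)) ∈ twistedE6 K 2
    rw [rho_of]
    exact gen_mem f hφ x
  exact h (Subgroup.mem_top m)

end Field

end Cfsg.Agent.Lib.Tw2E6Fi22
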