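import Cfsg.Agent.Lib.Tw2E6Fi22.Irr2
import Cfsg.Agent.Lib.Tw2E6Fi22.Final
import Cfsg.Agent.S1686
import Cfsg.Agent.S2604
import Cfsg.Agent.Lib.Compute.PermOut

/-!
# Three classes of subgroups `Ω₇(3)` in `²E₆(2)`
-/

set_option autoImplicit false
set_option maxRecDepth 100000
set_option linter.unusedSectionVars false
set_option linter.unusedVariables false
set_option linter.unusedSimpArgs false

universe u

namespace Cfsg.Agent.Lib.Tw2E6Fi22

open Cfsg.Lie Cfsg.Agent.Lib.ChevBN.Elem Cfsg.Agent.Lib.ChevBN.Fix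
open Cfsg.Agent.Lib.Twisted Cfsg.Agent.Lib.Twisted.E6
open Cfsg.Agent.Lib.Compute.GF4
open Cfsg.Spor.Fi22 (Gen)

/-- The simple orthogonal group. -/
abbrev O73 : Type := ↥(Cfsg.Omega (ZMod 3) (Cfsg.quadFormOdd 3 (ZMod 3)))

/-- The subgroup of `Fi₂₂` generated by all generators but the first. -/
abbrev K3 : Subgroup Cfsg.Spor.Fi22 :=
  (Subgroup.closure ({Cfsg.Spor.Fi22.b, Cfsg.Spor.Fi22.c, Cfsg.Spor.Fi22.d, Cfsg.Spor.Fi22.e, Cfsg.Spor.Fi22.f,
    Cfsg.Spor.Fi22.g, Cfsg.Spor.Fi22.h, Cfsg.Spor.Fi22.i} : Set (FreeGroup Gen))).map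
    (PresentedGroup.mk (Cfsg.Spor.coxRelators Cfsg.Spor.Fi22.edges ∪ {r | r ∈ Cfsg.Spor.Fi22.extra}))

theorem card_out_O73 : Nat.card (Cfsg.Out O73) = 2 := by
  obtain ⟨e⟩ := Cfsg.Agent.S2604.result (F := ZMod 3) (p := 3) (f := 1) (m := 3) le_rfl (by simp [ZMod.card]) (by norm_num) le_rfl
  rw [Cfsg.Agent.Lib.Compute.PermOut.card_out_congr Cfsg.Agent.S1686.poEquiv.symm, Nat.card_congr e.toEquiv]
  simp [Nat.card_eq_fintype_card, ZMod.card]

/-- The isomorphism. -/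
noncomputable def eO : O73 ≃* K3 :=
  Cfsg.Agent.S1686.poEquiv.symm.trans (_root_.Classical.choice Cfsg.Agent.S1686.result).symm

variable {K : Type u} [Field K] (f : F4 →+* K)

/-- The embedding. -/
noncomputable def PsiO : O73 →* GL chevE6.Idx K := (Phi f).comp (K3.subtype.comp eO.toMonoidHom)

theorem psi_inj : Function.Injective (PsiO f) :=
  (phi_inj f).comp (Subtype.val_injective.comp eO.injective)

theorem psi_mem {φ : K →+* K} (hφ : ∀ t, φ t = t ^ 2) (m : O73) : PsiO f m ∈ twistedE6 K 2 := phi_mem f hφ _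

theorem psi_sc (C : Matrix chevE6.Idx chevE6.Idx K)
    (h : ∀ m, Commute C ((PsiO f m : GL chevE6.Idx K) : Matrix chevE6.Idx chevE6.Idx K)) :
    ∃ μ : K, C = μ • (1 : Matrix chevE6.Idx chevE6.Idx K) := by
  refine scalar_of_comm2 f C fun y hy => ?_
  have hm : PresentedGroup.of y ∈ K3 := by
    refine ⟨FreeGroup.of y, Subgroup.subset_closure ?_, rfl⟩
    cases y <;> first | exact absurd rfl hy | simp
  have h1 := h (eO.symm ⟨_, hm⟩)
  have h2 : PsiO f (eO.symm ⟨_, hm⟩) = mapG chevE6 f (genG y) := by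
    show Phi f ((eO (eO.symm ⟨_, hm⟩) : K3) : Cfsg.Spor.Fi22) = _
    rw [eO.apply_symm_apply]
    show mapG chevE6 f (rho (PresentedGroup.of y)) = _
    rw [rho_of]
  rw [h2] at h1
  exact h1

/-- `²E₆(2)` has three classes of subgroups `Ω₇(3)`. -/
theorem exists_three_O73 [Fintype K] (hK : Fintype.card K = 4) :
    ∃ H : Fin 3 → Subgroup (Cfsg.Lie.twistedE6 K 2),
      (∀ i, Nonempty ((H i) ≃* Cfsg.Omega (ZMod 3) (Cfsg.quadFormOdd 3 (ZMod 3)))) ∧
      (∀ i j, i ≠ j → ∀ g : (Cfsg.Lie.twistedE6 K 2), (H i).map (MulAut.conj g).toMonoidHom ≠ H j) := by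
  classical
  have hK2 : Fintype.card K = 2 ^ 2 := by rw [hK]; norm_num
  obtain ⟨φ, T, hφ, hφ2, hρ, hτ, I⟩ := main (K := K) (q := 2) Nat.prime_two.isPrimePow hK2
  let f : F4 →+* K := ((equivOfCard K hK).symm : F4 ≃+* K).toRingHom
  exact three_gen (PsiO f) hK (psi_inj f) card_out_O73 (psi_mem f hφ) (psi_sc f)

end Cfsg.Agent.Lib.Tw2E6Fi22
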