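import Cfsg.Agent.Lib.Tw2E6Fi22.Base

/-! # The words of the generators -/

set_option autoImplicit false
set_option maxRecDepth 100000
set_option linter.unusedSectionVars false
set_option linter.unusedVariables false

namespace Cfsg.Agent.Lib.Tw2E6Fi22

open Cfsg.Lie Cfsg.Agent.Lib.Compute.GF4

/-- The tables of the letters. -/
def letT : ℕ → Tab
  | 0 => tx46_0
  | 1 => tx25_0
  | 2 => tx39_0
  | 3 => tx32_0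
  | 4 => tl4
  | 5 => tl5
  | 6 => tl6
  | 7 => tl7
  | _ => tl8

/-- A word in the letters. -/
def wA : List ℕ := [7, 4, 5, 8, 7, 2, 1, 3, 7, 5, 7, 6, 2, 6, 3, 2, 1, 0, 1, 2, 3, 6, 2, 6, 7, 5, 7, 3, 1, 2, 7, 8, 5, 4, 7]

/-- A word in the letters. -/
def wB : List ℕ := [7, 2, 3, 7, 5, 8, 6, 7, 2, 3, 1, 0, 1, 3, 2, 7, 6, 8, 5, 7, 3, 2, 7]

/-- A word in the letters. -/
def wC : List ℕ := [2, 6, 5, 8, 3, 7, 4, 5, 3, 7, 6, 8, 2, 6, 3, 2, 1, 0, 1, 2, 3, 6, 2, 8, 6, 7, 3, 5, 4, 7, 3, 8, 5, 6, 2]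

/-- A word in the letters. -/
def wD : List ℕ := [0]

/-- A word in the letters. -/
def wE : List ℕ := [2, 0, 1, 3, 7, 6, 5, 8, 3, 7, 4, 5, 3, 7, 6, 2, 6, 3, 2, 1, 0, 1, 2, 3, 6, 2, 6, 7, 3, 5, 4, 7, 3, 8, 5, 6, 7, 3, 1, 0, 2]

/-- A word in the letters. -/
def wF : List ℕ := [4, 6, 8, 3, 2, 6, 3, 2, 0, 2, 3, 6, 2, 3, 8, 6, 4]

/-- A word in the letters. -/
def wG : List ℕ := [3, 7, 4, 5, 7, 2, 0, 2, 6, 8, 2, 6, 5, 3, 7, 1, 3, 2, 1, 0, 1, 2, 3, 1, 7, 3, 5, 6, 2, 8, 6, 2, 0, 2, 7, 5, 4, 7, 3]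

/-- A word in the letters. -/
def wH : List ℕ := [2, 6, 7, 4, 2, 6, 8, 7, 3, 2, 6, 5, 7, 3, 1, 0, 1, 3, 7, 5, 6, 2, 3, 7, 8, 6, 2, 4, 7, 6, 2]

/-- A word in the letters. -/
def wI : List ℕ := [5, 8, 6, 5, 7, 5, 1, 3, 7, 5, 4, 2, 6, 2, 3, 1, 0, 1, 3, 2, 6, 2, 4, 5, 7, 3, 1, 5, 7, 5, 6, 8, 5]


end Cfsg.Agent.Lib.Tw2E6Fi22
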